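import Mathlib
import Cfsg.Agent.KFacts.Unit.OutHom
import Cfsg.Agent.LieRecognition.FieldSemilinear

/-!
# ODD, D4: field and diagonal part of the automorphisms of `PSU n F q`, `q` even (helper642)

`fixF F q` : the automorphisms of `F` trivial on `F_q` (`= {1, κ}`, `fixF_cases`). `exists_part` : the field part
`φ : MulAut (PSU n F q) →* (F ≃+* F)`; a 2-element with trivial field part is inner; a 2-element normalising a Sylow
2-subgroup `T` centralises `Z(T)` iff its field part is trivial on `F_q`.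
-/

set_option autoImplicit false

namespace Cfsg.Agent.OddHalf.D4.UnB.Field

open Cfsg Cfsg.Agent.LieClassical.HermBasic Cfsg.Agent.LieClassical.HermSiegel
  Cfsg.Agent.LieClassical.HermGen Cfsg.Agent.LieClassical.SUBasic Matrix
  Cfsg.Agent.ClassicalGeometry.PSUAutBasic Cfsg.Agent.ClassicalGeometry.PSUAutSylow
  Cfsg.Agent.ClassicalGeometry.PSUAutUnip Cfsg.Agent.ClassicalGeometry.PSUAutPhi
  Cfsg.Agent.ClassicalGeometry.PSUAutExt Cfsg.Agent.KFacts.Unit

open Cfsg.Agent.ClassicalGeometry.PSUAutCount (gm semiConj toAut herm_gm act_semiConj herm_semi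
  gm_inv_mulVec gm_mulVec_inv)

/-- In a finite cyclic group there is at most one involution. -/
theorem cyc_two {C : Type*} [Group C] [Finite C] [IsCyclic C] {x y : C} (hx : x ^ 2 = 1) (hy : y ^ 2 = 1) :
    x = 1 ∨ y = 1 ∨ x⁻¹ * y = 1 := by
  classical
  have := Fintype.ofFinite C
  by_contra hcon
  push Not at hcon
  obtain ⟨h1, h2, h3⟩ := hcon
  have h4 : ({1, x, y} : Finset C) ⊆ Finset.univ.filter fun a : C => a ^ 2 = 1 := by
    intro a ha
    simp only [Finset.mem_insert, Finset.mem_singleton] at ha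
    rw [Finset.mem_filter]
    refine ⟨Finset.mem_univ _, ?_⟩
    rcases ha with rfl | rfl | rfl
    · exact one_pow 2
    · exact hx
    · exact hy
  have h5 := Finset.card_le_card h4
  have h6 := IsCyclic.card_pow_eq_one_le (α := C) (n := 2) (by norm_num)
  have h7 : x ≠ y := by
    rintro rfl
    exact h3 (inv_mul_cancel x)
  rw [Finset.card_insert_of_notMem (by simp [Ne.symm h1, Ne.symm h2]),
    Finset.card_insert_of_notMem (by simp [h7]), Finset.card_singleton] at h5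
  omega

section Fld

theorem finite_aut (F : Type*) [Field F] [Finite F] : Finite (F ≃+* F) :=
  Finite.of_injective (fun σ : F ≃+* F => (σ : F → F)) DFunLike.coe_injective

variable (F : Type*) [Field F]

/-- The automorphisms trivial on the fixed field of `x ↦ x ^ q`. -/
def fixF (q : ℕ) : Subgroup (F ≃+* F) where
  carrier := {σ | ∀ x : F, x ^ q = x → σ x = x}
  one_mem' := fun _ _ => rfl
  mul_mem' := by
    intro σ τ hσ hτ x hx
    change σ (τ x) = x
    rw [hτ x hx, hσ x hx]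
  inv_mem' := by
    intro σ hσ x hx
    have h1 := hσ x hx
    change σ.symm x = x
    rw [RingEquiv.symm_apply_eq]
    exact h1.symm

variable {F}

theorem mem_fixF {q : ℕ} {σ : F ≃+* F} : σ ∈ fixF F q ↔ ∀ x : F, x ^ q = x → σ x = x := Iff.rfl

variable [Fintype F] {q : ℕ}

/-- The automorphism `x ↦ x ^ q`. -/
noncomputable def kap (hF : Fintype.card F = q ^ 2) : F ≃+* F :=
  RingEquiv.ofBijective (LieClassical.HermBasic.conj hF : F →+* F)
    (Finite.injective_iff_bijective.1 (RingHom.injective _))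

theorem kap_apply (hF : Fintype.card F = q ^ 2) (x : F) : kap hF x = x ^ q := rfl

theorem kap_mem (hF : Fintype.card F = q ^ 2) : kap hF ∈ fixF F q := fun x hx => by rw [kap_apply, hx]

theorem kap_ne_one (hF : Fintype.card F = q ^ 2) : kap hF ≠ 1 := by
  intro h
  obtain ⟨x, hx⟩ := exists_not_fixed hF
  apply hx
  have h1 := congrArg (fun σ : F ≃+* F => σ x) h
  exact h1

theorem kap_sq (hF : Fintype.card F = q ^ 2) : kap hF ^ 2 = 1 := by
  ext x
  rw [pow_two]
  change kap hF (kap hF x) = x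
  rw [kap_apply, kap_apply, pow_q_pow_q hF]

/-- `σ ^ 2 = 1` implies that `σ` is trivial on `F_q` -/
theorem mem_of_sq (hF : Fintype.card F = q ^ 2) {σ : F ≃+* F} (h : σ ^ 2 = 1) : σ ∈ fixF F q := by
  have hc : IsCyclic (F ≃+* F) := LieRecognition.FieldSemilinear.isCyclic_ringAut F
  have hfin : Finite (F ≃+* F) := finite_aut F
  rcases cyc_two h (kap_sq hF) with h1 | h1 | h1
  · rw [h1]; exact one_mem _
  · exact absurd h1 (kap_ne_one hF)
  · have h2 : σ = kap hF := by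
      rw [inv_mul_eq_one] at h1
      exact h1
    rw [h2]; exact kap_mem hF

/-- an automorphism trivial on `F_q` is `1` or `x ↦ x ^ q` -/
theorem fixF_cases (hF : Fintype.card F = q ^ 2) {σ : F ≃+* F} (h : σ ∈ fixF F q) : σ = 1 ∨ σ = kap hF := by
  obtain ⟨x, hx⟩ := exists_not_fixed hF
  -- `σ x` is a root of `(Y - x) (Y - x ^ q)`
  have h1 : σ (x + x ^ q) = x + x ^ q := h _ (by rw [add_pow_q hF, pow_q_pow_q hF, add_comm])
  have h2 : σ (x * x ^ q) = x * x ^ q := h _ (norm_pow_q hF x)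
  rw [map_add, map_pow] at h1
  rw [map_mul, map_pow] at h2
  have h3 : (σ x - x) * (σ x - x ^ q) = 0 := by
    linear_combination (σ x) * h1 - h2
  -- every element is `a + b x`
  have hd : x ^ q - x ≠ 0 := sub_ne_zero.2 hx
  have h4 : ∀ y : F, ∃ a b : F, a ^ q = a ∧ b ^ q = b ∧ y = a + b * x := by
    intro y
    obtain ⟨b, hb⟩ : ∃ b, b = (y ^ q - y) / (x ^ q - x) := ⟨_, rfl⟩
    have hbq : b ^ q = b := by
      rw [hb, div_pow, sub_pow_q hF, sub_pow_q hF, pow_q_pow_q hF, pow_q_pow_q hF, ← neg_sub (y ^ q) y,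
        ← neg_sub (x ^ q) x, neg_div_neg_eq]
    refine ⟨y - b * x, b, ?_, hbq, by ring⟩
    rw [sub_pow_q hF, mul_pow, hbq]
    have h5 : b * (x ^ q - x) = y ^ q - y := by rw [hb, div_mul_cancel₀ _ hd]
    linear_combination -h5
  rcases mul_eq_zero.1 h3 with h5 | h5
  · left
    ext y
    obtain ⟨a, b, ha, hb, rfl⟩ := h4 y
    rw [map_add, map_mul, h a ha, h b hb, sub_eq_zero.1 h5]
    rfl
  · right
    ext y
    obtain ⟨a, b, ha, hb, rfl⟩ := h4 y
    rw [map_add, map_mul, h a ha, h b hb, sub_eq_zero.1 h5, kap_apply, add_pow_q hF, mul_pow, ha, hb]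

/-- (k4) for the field part -/
theorem fixF_two (hF : Fintype.card F = q ^ 2) {σ τ : F ≃+* F} (hσ : σ ∈ fixF F q) (hτ : τ ∈ fixF F q) :
    σ = 1 ∨ τ = 1 ∨ σ⁻¹ * τ = 1 := by
  rcases fixF_cases hF hσ with h | h
  · exact Or.inl h
  · rcases fixF_cases hF hτ with h' | h'
    · exact Or.inr (Or.inl h')
    · right; right
      rw [h, h', inv_mul_cancel]

/-- (k1) for the field part -/
theorem fixF_cyc {σ τ : F ≃+* F} (hσ : σ * σ ∈ fixF F q) (hτ : τ * τ ∈ fixF F q) :
    σ ∈ fixF F q ∨ τ ∈ fixF F q ∨ σ⁻¹ * τ ∈ fixF F q := by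
  have hc : IsCyclic (F ≃+* F) := LieRecognition.FieldSemilinear.isCyclic_ringAut F
  have hfin : Finite (F ≃+* F) := finite_aut F
  have hn : (fixF F q).Normal := by
    refine ⟨fun a ha g => ?_⟩
    let _ : CommGroup (F ≃+* F) := IsCyclic.commGroup
    have h1 : g * a * g⁻¹ = a := by
      rw [mul_comm g a, mul_inv_cancel_right]
    rw [h1]; exact ha
  have hc' : IsCyclic ((F ≃+* F) ⧸ fixF F q) :=
    isCyclic_of_surjective (QuotientGroup.mk' (fixF F q)) (QuotientGroup.mk'_surjective _)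
  have h1 : (QuotientGroup.mk' (fixF F q) σ) ^ 2 = 1 := by
    rw [pow_two, ← map_mul]; exact (QuotientGroup.eq_one_iff _).2 hσ
  have h2 : (QuotientGroup.mk' (fixF F q) τ) ^ 2 = 1 := by
    rw [pow_two, ← map_mul]; exact (QuotientGroup.eq_one_iff _).2 hτ
  rcases cyc_two h1 h2 with h | h | h
  · exact Or.inl ((QuotientGroup.eq_one_iff _).1 h)
  · exact Or.inr (Or.inl ((QuotientGroup.eq_one_iff _).1 h))
  · rw [← map_inv, ← map_mul] at h
    exact Or.inr (Or.inr ((QuotientGroup.eq_one_iff _).1 h))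

end Fld

section PSU

variable {F : Type*} [Field F] [Fintype F] {q n : ℕ} [CharP F 2]

/-- The centre of a Sylow 2-subgroup. -/
theorem exists_cent (hF : Fintype.card F = q ^ 2) (hn : 3 ≤ n) (T : Sylow 2 (PSU n F q)) :
    ∃ (u : Fin n → F) (_ : u ≠ 0) (hu : hermForm n F q u u = 0), cent (T : Subgroup (PSU n F q)) = RR hF u hu := by
  have : Fact (Nat.Prime 2) := ⟨Nat.prime_two⟩
  obtain ⟨S, hS⟩ := exists_sylow_lift 2 T
  obtain ⟨u, hu0, hu, hfix⟩ := exists_fixed 2 hF (by omega) S.isPGroup'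
  refine ⟨u, hu0, hu, ?_⟩
  rw [← hS, cent_sylow 2 hF hn S hu0 hu hfix]
  rfl

/-- (k0) -/
theorem cent_sq (hF : Fintype.card F = q ^ 2) (hn : 3 ≤ n) (T : Sylow 2 (PSU n F q)) {z : PSU n F q}
    (hz : z ∈ cent (T : Subgroup (PSU n F q))) : z * z = 1 := by
  obtain ⟨u, hu0, hu, h1⟩ := exists_cent hF hn T
  rw [h1] at hz
  obtain ⟨μ, hμ, rfl⟩ := mem_RR.1 hz
  rw [← map_mul, transv_mul, ← map_one (pr n F q)]
  congr 1
  apply ext_act
  intro v
  rw [act_transv, CharTwo.add_self_eq_zero, zero_mul, zero_smul, add_zero, act_one]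

omit [CharP F 2] in
/-- the action of a semilinear automorphism on a long root group -/
theorem toAut_transv (hF : Fintype.card F = q ^ 2) (A : GU n F q) (ρ : F ≃+* F) {u : Fin n → F}
    (hu : hermForm n F q u u = 0) {c : F} (hc : (gm A *ᵥ fun i => ρ (u i)) = c • u) {μ : F} (hμ : μ + μ ^ q = 0)
    (hμ' : (c * c ^ q * ρ μ) + (c * c ^ q * ρ μ) ^ q = 0) :
    toAut A ρ (pr n F q (transv hF u hu μ hμ)) = pr n F q (transv hF u hu (c * c ^ q * ρ μ) hμ') := by
  have h0 : (gm A *ᵥ fun i => ρ ((0 : Fin n → F) i)) = 0 := by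
    have : (fun i => ρ ((0 : Fin n → F) i)) = 0 := by
      funext i; exact map_zero ρ
    rw [this, mulVec_zero]
  have h1 : hermForm n F q (c • u) (c • u) = 0 := by rw [herm_smul_left, herm_smul_right, hu, mul_zero, mul_zero]
  have h2 : ρ μ + ρ μ ^ q = 0 := by rw [← map_pow, ← map_add, hμ, map_zero]
  have h3 : toAut A ρ (pr n F q (transv hF u hu μ hμ)) = pr n F q (transv hF (c • u) h1 (ρ μ) h2) := by
    rw [Cfsg.Agent.ClassicalGeometry.PSUAutMain.toAut_pr', transv, semiConj_siegel, transv]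
    congr 1
    exact siegel_congr hF _ _ hc h0 rfl
  rw [h3]
  congr 1
  apply ext_act
  intro v
  rw [act_transv, act_transv, herm_smul_right]
  funext i
  simp only [Pi.add_apply, Pi.smul_apply, smul_eq_mul]
  ring

omit [CharP F 2] in
/-- transvections in `PSU` are distinct -/
theorem transv_pr_inj (hF : Fintype.card F = q ^ 2) (hn : 3 ≤ n) {u : Fin n → F} (hu0 : u ≠ 0)
    (hu : hermForm n F q u u = 0) {μ ν : F} {hμ : μ + μ ^ q = 0} {hν : ν + ν ^ q = 0}
    (h : pr n F q (transv hF u hu μ hμ) = pr n F q (transv hF u hu ν hν)) : μ = ν := by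
  have h1 := siegel_pr_inj hF hn _ _ h
  obtain ⟨f, -, huf, hfu⟩ := exists_partner hF hu0 hu
  have h2 := congrArg (fun g => act g f) h1
  change act (transv hF u hu μ hμ) f = act (transv hF u hu ν hν) f at h2
  rw [act_transv, act_transv, hfu, mul_one, mul_one, add_right_inj] at h2
  exact smul_left_injective F hu0 h2

omit [Fintype F] in
theorem fixed_iff {x : F} : x + x ^ q = 0 ↔ x ^ q = x := by
  have h2 := CharTwo.add_self_eq_zero x
  constructor
  · intro h
    linear_combination h - h2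
  · intro h
    rw [h]; exact h2

omit [CharP F 2] in
/-- a semilinear automorphism normalising a long root group -/
theorem exists_scale_RR (hF : Fintype.card F = q ^ 2) (hn : 3 ≤ n) {u : Fin n → F} (hu0 : u ≠ 0)
    (hu : hermForm n F q u u = 0) (A : GU n F q) (ρ : F ≃+* F)
    (h1 : ∀ x ∈ RR hF u hu, toAut A ρ x ∈ RR hF u hu) :
    ∃ ν : F, ν ≠ 0 ∧ ν ^ q = ν ∧ ∀ (μ : F) (hμ : μ + μ ^ q = 0) (hμ' : (ν * ρ μ) + (ν * ρ μ) ^ q = 0),
      toAut A ρ (pr n F q (transv hF u hu μ hμ)) = pr n F q (transv hF u hu (ν * ρ μ) hμ') := by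
  have h2 : hermForm n F q (gm A *ᵥ fun i => ρ (u i)) (gm A *ᵥ fun i => ρ (u i)) = 0 := by
    rw [herm_semi, hu, map_zero]
  have hne : (gm A *ᵥ fun i => ρ (u i)) ≠ 0 := by
    intro h3
    exact hu0 (sg_eq_zero A ρ h3)
  have h3 : RR hF (gm A *ᵥ fun i => ρ (u i)) h2 = RR hF u hu := by
    have hle : RR hF (gm A *ᵥ fun i => ρ (u i)) h2 ≤ RR hF u hu := by
      intro x hx
      obtain ⟨y, rfl⟩ := (toAut A ρ).surjective x
      exact h1 y ((Cfsg.Agent.ClassicalGeometry.PSUAutMain.toAut_RR hF A ρ hu h2 rfl y).2 hx)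
    have hle2 : (RR hF u hu).map (toAut A ρ : PSU n F q →* PSU n F q) ≤ RR hF u hu := by
      rintro _ ⟨x, hx, rfl⟩
      exact h1 x hx
    have hcard : Nat.card ↥((RR hF u hu).map (toAut A ρ : PSU n F q →* PSU n F q)) = Nat.card ↥(RR hF u hu) :=
      Nat.card_congr ((RR hF u hu).equivMapOfInjective _ (toAut A ρ).injective).symm.toEquiv
    have heq : (RR hF u hu).map (toAut A ρ : PSU n F q →* PSU n F q) = RR hF u hu :=
      Subgroup.eq_of_le_of_card_ge hle2 hcard.ge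
    apply le_antisymm hle
    intro x hx
    rw [← heq] at hx
    obtain ⟨y, hy, rfl⟩ := hx
    exact (Cfsg.Agent.ClassicalGeometry.PSUAutMain.toAut_RR hF A ρ hu h2 rfl y).1 hy
  obtain ⟨c, hc0, h4⟩ := (RR_eq_iff hF hn hu0 hne hu h2).1 h3.symm
  exact ⟨c * c ^ q, mul_ne_zero hc0 (pow_ne_zero _ hc0), norm_pow_q hF c, fun μ hμ hμ' =>
    toAut_transv hF A ρ hu h4 hμ hμ'⟩

/-- **The field part of the automorphisms of `PSU n F q`, `q` even.** -/
theorem exists_part (hF : Fintype.card F = q ^ 2) (hn : 3 ≤ n) (h32 : ¬ (n = 3 ∧ q = 2)) :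
    ∃ φ : MulAut (PSU n F q) →* (F ≃+* F),
      (∀ x, φ (MulAut.conj x) = 1) ∧
      (∀ α : MulAut (PSU n F q), φ α = 1 → (∃ k : ℕ, α ^ 2 ^ k = 1) → ∃ x, α = MulAut.conj x) ∧
      (∀ (T : Sylow 2 (PSU n F q)) (α : MulAut (PSU n F q)),
        (∀ z ∈ cent (T : Subgroup (PSU n F q)), α z = z) → φ α ∈ fixF F q) ∧
      ∀ (T : Sylow 2 (PSU n F q)) (α : MulAut (PSU n F q)),
        (∀ z ∈ cent (T : Subgroup (PSU n F q)), α z ∈ cent (T : Subgroup (PSU n F q))) →
        (∃ k : ℕ, α ^ 2 ^ k = 1) → φ α ∈ fixF F q → ∀ z ∈ cent (T : Subgroup (PSU n F q)), α z = z := by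
  obtain ⟨φ, hφ, hφ1, hφ2⟩ := exists_fieldHom' (F := F) (q := q) (n := n) hF hn h32
  have heven : Even q := by
    obtain ⟨m, -, hm⟩ := FiniteField.card F 2
    have h1 : Even (q ^ 2) := by
      rw [← hF, hm]
      exact (even_two.pow_of_ne_zero m.ne_zero)
    exact (Nat.even_pow.1 h1).1
  have tr : ∀ (ν : F) (ρ : F ≃+* F) (μ : F), ν ^ q = ν → μ + μ ^ q = 0 → (ν * ρ μ) + (ν * ρ μ) ^ q = 0 := by
    intro ν ρ μ hν hμ
    rw [mul_pow, hν, ← map_pow, ← mul_add, ← map_add, hμ, map_zero, mul_zero]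
  refine ⟨φ, hφ1, ?_, ?_, ?_⟩
  · rintro α h1 ⟨k, hk⟩
    refine hφ2 α (2 ^ k) h1 ?_ ⟨1, by rw [hk, map_one]⟩
    apply Nat.Coprime.pow_left
    rw [Nat.coprime_two_left]
    exact heven.add_one
  · intro T α h5
    obtain ⟨u, hu0, hu, hc⟩ := exists_cent hF hn T
    rw [hc] at h5
    obtain ⟨A, ρ, rfl⟩ := Cfsg.Agent.ClassicalGeometry.PSUAutMain.exists_toAut (F := F) (q := q) (n := n) hF hn h32 α
    obtain ⟨ν, hν0, hνq, key⟩ := exists_scale_RR hF hn hu0 hu A ρ fun x hx => by rw [h5 x hx]; exact hx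
    rw [hφ, mem_fixF]
    have h6 : ∀ μ : F, μ ^ q = μ → ν * ρ μ = μ := by
      intro μ hμ
      have h7 := h5 _ (mem_RR.2 ⟨μ, fixed_iff.2 hμ, rfl⟩)
      rw [key μ (fixed_iff.2 hμ) (tr ν ρ μ hνq (fixed_iff.2 hμ))] at h7
      exact transv_pr_inj hF hn hu0 hu h7
    have h7 := h6 1 (one_pow q)
    rw [map_one, mul_one] at h7
    intro x hx
    have h8 := h6 x hx
    rwa [h7, one_mul] at h8
  · rintro T α h0 ⟨k, hk⟩ h5
    obtain ⟨u, hu0, hu, hc⟩ := exists_cent hF hn T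
    rw [hc] at h0 ⊢
    obtain ⟨A, ρ, rfl⟩ := Cfsg.Agent.ClassicalGeometry.PSUAutMain.exists_toAut (F := F) (q := q) (n := n) hF hn h32 α
    obtain ⟨ν, hν0, hνq, key⟩ := exists_scale_RR hF hn hu0 hu A ρ h0
    rw [hφ, mem_fixF] at h5
    have h7 : ∀ (m : ℕ) (μ : F) (hμ : μ + μ ^ q = 0) (hμ' : (ν ^ m * μ) + (ν ^ m * μ) ^ q = 0),
        (toAut A ρ ^ m) (pr n F q (transv hF u hu μ hμ)) = pr n F q (transv hF u hu (ν ^ m * μ) hμ') := by
      intro m
      induction m with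
      | zero =>
        intro μ hμ hμ'
        rw [pow_zero, MulAut.one_apply]
        congr 1
        exact siegel_congr hF _ _ rfl rfl (by rw [pow_zero, one_mul])
      | succ m ih =>
        intro μ hμ hμ'
        have hμ2 : (ν ^ m * μ) + (ν ^ m * μ) ^ q = 0 := by
          rw [mul_pow, ← pow_mul, mul_comm m q, pow_mul, hνq, ← mul_add, hμ, mul_zero]
        rw [pow_succ', MulAut.mul_apply, ih μ hμ hμ2, key _ hμ2 (tr ν ρ _ hνq hμ2)]
        congr 1
        refine siegel_congr hF _ _ rfl rfl ?_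
        rw [h5 _ (fixed_iff.1 hμ2)]
        ring
    have h8 : ν ^ 2 ^ k = 1 := by
      have h1t : (1 : F) + 1 ^ q = 0 := fixed_iff.2 (one_pow q)
      have hk1 : (ν ^ 2 ^ k * 1) + (ν ^ 2 ^ k * 1) ^ q = 0 := by
        rw [mul_pow, ← pow_mul, mul_comm _ q, pow_mul, hνq, ← mul_add, h1t, mul_zero]
      have h9 := h7 (2 ^ k) 1 h1t hk1
      rw [hk, MulAut.one_apply] at h9
      have h10 := transv_pr_inj hF hn hu0 hu h9
      rw [mul_one] at h10
      exact h10.symm
    have h9 : ν = 1 := by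
      have h10 : (ν - 1) ^ 2 ^ k = 0 := by rw [sub_pow_char_pow, h8, one_pow, sub_self]
      exact sub_eq_zero.1 (eq_zero_of_pow_eq_zero h10)
    intro z hz
    obtain ⟨μ, hμ, rfl⟩ := mem_RR.1 hz
    rw [key μ hμ (tr ν ρ μ hνq hμ)]
    congr 1
    refine siegel_congr hF _ _ rfl rfl ?_
    rw [h9, one_mul, h5 _ (fixed_iff.1 hμ)]

end PSU

end Cfsg.Agent.OddHalf.D4.UnB.Field
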