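import Mathlib
import Cfsg.Agent.OddHalf.D4.Free.AutFacts
import Cfsg.Agent.OddHalf.D4.UnB.Field

/-!
# ODD, D4, (1B): the facts (k0), (k1), (k2), (k4), (k5:c2) for `PSU n F q`, `q` even (helper642)
-/

set_option autoImplicit false

namespace Cfsg.Agent.OddHalf.D4.UnB.AutPart

open Cfsg Cfsg.Agent.LieClassical.HermBasic Cfsg.Agent.LieClassical.SUBasic
  Cfsg.Agent.ClassicalGeometry.PSUAutBasic Cfsg.Agent.ClassicalGeometry.PSUAutSylow
  Cfsg.Agent.OddHalf.D4.Free Cfsg.Agent.OddHalf.D4.UnB.Field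

theorem mem_cent_iff {X : Type*} [Group X] {T : Sylow 2 X} {z : X} : z ∈ cent (T : Subgroup X) ↔ InZ T z := by
  unfold cent
  rw [Subgroup.mem_inf, Subgroup.mem_centralizer_iff]
  exact Iff.rfl

theorem fixZ_iff' {X : Type*} [Group X] {T : Sylow 2 X} {e : MulAut X} :
    FixZ T e ↔ ∀ z ∈ cent (T : Subgroup X), e z = z := by
  unfold FixZ
  exact forall_congr' fun z => by rw [mem_cent_iff]

/-- the elements of `A` normalise `Z(T)` -/
theorem goodA_cent {X : Type*} [Group X] {T : Sylow 2 X} {A : Subgroup (MulAut X)} (hA : GoodA T A) {e : MulAut X}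
    (he : e ∈ A) : ∀ z ∈ cent (T : Subgroup X), e z ∈ cent (T : Subgroup X) := by
  intro z hz
  rw [mem_cent_iff] at hz ⊢
  refine ⟨hA.norm e he z hz.1, fun t ht => ?_⟩
  have h1 := hz.2 _ (hA.norm e⁻¹ (inv_mem he) t ht)
  have h2 := congrArg e h1
  rw [map_mul, map_mul, MulAut.apply_inv_self] at h2
  exact h2

theorem goodA_pow {X : Type*} [Group X] {T : Sylow 2 X} {A : Subgroup (MulAut X)} (hA : GoodA T A)
    {e : MulAut X} (he : e ∈ A) : ∃ k : ℕ, e ^ 2 ^ k = 1 := by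
  obtain ⟨k, hk⟩ := hA.two ⟨e, he⟩
  exact ⟨k, congrArg Subtype.val hk⟩

variable {F : Type*} [Field F] [Fintype F] {q n : ℕ} [CharP F 2]

/-- (k0) -/
theorem sq (hF : Fintype.card F = q ^ 2) (hn : 3 ≤ n) (T : Sylow 2 (PSU n F q)) :
    ∀ z, InZ T z → z * z = 1 := fun _ hz => cent_sq hF hn T (mem_cent_iff.2 hz)

/-- The field part for the good 2-subgroups of `Aut (PSU)`. -/
theorem exists_phi (hF : Fintype.card F = q ^ 2) (hn : 3 ≤ n) (h32 : ¬ (n = 3 ∧ q = 2)) (T : Sylow 2 (PSU n F q)) :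
    ∃ φ : MulAut (PSU n F q) →* (F ≃+* F), (∀ x, φ (MulAut.conj x) = 1) ∧
      (∀ e : MulAut (PSU n F q), FixZ T e → φ e ∈ fixF F q) ∧
      ∀ A, GoodA T A → (∀ e ∈ A, φ e ∈ fixF F q → FixZ T e) ∧
        ∀ e ∈ A, φ e = 1 → e ∈ (MulAut.conj : PSU n F q →* MulAut (PSU n F q)).range := by
  obtain ⟨φ, h1, h2, h3, h4⟩ := exists_part (F := F) (q := q) (n := n) hF hn h32
  refine ⟨φ, h1, fun e he => h3 T e (fixZ_iff'.1 he), fun A hA => ⟨fun e he hφ => ?_, fun e he hφ => ?_⟩⟩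
  · exact fixZ_iff'.2 (h4 T e (goodA_cent hA he) (goodA_pow hA he) hφ)
  · obtain ⟨x, hx⟩ := h2 e hφ (goodA_pow hA he)
    exact ⟨x, hx.symm⟩

/-- (k1) -/
theorem cyc (hF : Fintype.card F = q ^ 2) (hn : 3 ≤ n) (h32 : ¬ (n = 3 ∧ q = 2)) (T : Sylow 2 (PSU n F q)) :
    ∀ A, GoodA T A → ∀ a ∈ A, ∀ b ∈ A, FixZ T (a * a) → FixZ T (b * b) →
      FixZ T a ∨ FixZ T b ∨ FixZ T (a⁻¹ * b) := by
  obtain ⟨φ, -, h2, h3⟩ := exists_phi hF hn h32 T
  intro A hA a ha b hb haa hbb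
  have e1 := h2 _ haa
  have e2 := h2 _ hbb
  rw [map_mul] at e1 e2
  rcases fixF_cyc e1 e2 with h | h | h
  · exact Or.inl ((h3 A hA).1 a ha h)
  · exact Or.inr (Or.inl ((h3 A hA).1 b hb h))
  · rw [← map_inv, ← map_mul] at h
    exact Or.inr (Or.inr ((h3 A hA).1 _ (mul_mem (inv_mem ha) hb) h))

/-- (k2) -/
theorem field (hF : Fintype.card F = q ^ 2) (hn : 3 ≤ n) (h32 : ¬ (n = 3 ∧ q = 2)) (T : Sylow 2 (PSU n F q)) :
    ∀ A, GoodA T A → ∀ e ∈ A, ∀ g : PSU n F q, (∀ z, InZ T z → e (g * z * g⁻¹) = g * z * g⁻¹) → FixZ T e := by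
  obtain ⟨φ, h1, h2, h3⟩ := exists_phi hF hn h32 T
  intro A hA e he g hg
  refine (h3 A hA).1 e he ?_
  have h4 := h2 ((MulAut.conj g)⁻¹ * e * MulAut.conj g) (by
    intro z hz
    rw [MulAut.mul_apply, MulAut.mul_apply, MulAut.conj_apply, hg z hz, MulAut.conj_inv_apply]
    group)
  rw [map_mul, map_mul, map_inv, h1, inv_one, one_mul, mul_one] at h4
  exact h4

/-- (k4) -/
theorem graph (hF : Fintype.card F = q ^ 2) (hn : 3 ≤ n) (h32 : ¬ (n = 3 ∧ q = 2)) (T : Sylow 2 (PSU n F q)) :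
    ∀ A, GoodA T A → ∀ a ∈ A, ∀ b ∈ A, FixZ T a → FixZ T b →
      a ∈ (MulAut.conj : PSU n F q →* MulAut (PSU n F q)).range ∨
        b ∈ (MulAut.conj : PSU n F q →* MulAut (PSU n F q)).range ∨
          a⁻¹ * b ∈ (MulAut.conj : PSU n F q →* MulAut (PSU n F q)).range := by
  obtain ⟨φ, -, h2, h3⟩ := exists_phi hF hn h32 T
  intro A hA a ha b hb haf hbf
  rcases fixF_two hF (h2 a haf) (h2 b hbf) with h | h | h
  · exact Or.inl ((h3 A hA).2 a ha h)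
  · exact Or.inr (Or.inl ((h3 A hA).2 b hb h))
  · rw [← map_inv, ← map_mul] at h
    exact Or.inr (Or.inr ((h3 A hA).2 _ (mul_mem (inv_mem ha) hb) h))

/-- (k5), case (c2) -/
theorem outC2 (hF : Fintype.card F = q ^ 2) (hn : 3 ≤ n) (h32 : ¬ (n = 3 ∧ q = 2)) (T : Sylow 2 (PSU n F q)) :
    ∀ A, GoodA T A → ∀ e ∈ A, e * e = 1 → FixZ T e := by
  obtain ⟨φ, -, h2, h3⟩ := exists_phi hF hn h32 T
  intro A hA e he hee
  refine (h3 A hA).1 e he (mem_of_sq hF ?_)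
  rw [pow_two, ← map_mul, hee, map_one]

/-- (k5) -/
theorem out (hF : Fintype.card F = q ^ 2) (hn : 3 ≤ n) (h32 : ¬ (n = 3 ∧ q = 2)) (T : Sylow 2 (PSU n F q)) :
    OutA T := Or.inr (Or.inl (outC2 hF hn h32 T))

/-- **`AFacts` for `PSU n F q` from the filtrations.** -/
theorem aFacts (hF : Fintype.card F = q ^ 2) (hn : 3 ≤ n) (h32 : ¬ (n = 3 ∧ q = 2)) (T : Sylow 2 (PSU n F q))
    (hT : ∀ A, GoodA T A → ∃ U L, FltA T A U L) : AFacts T :=
  ⟨sq hF hn T, cyc hF hn h32 T, field hF hn h32 T, hT, graph hF hn h32 T, out hF hn h32 T⟩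

end Cfsg.Agent.OddHalf.D4.UnB.AutPart
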