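import Mathlib
import Cfsg.Agent.LieClassical.HermBasic

/-!
# ODD, D4, (1B): 2-groups of semilinear isometries of a hermitian space in characteristic 2

`flag_abs`: a finite 2-group of semilinear isometries of a nondegenerate hermitian space over a finite field of
characteristic 2 has a Witt basis `v 0, …, v (n - 1)` with `σ (v k) - v k ∈ ⟨v i | i < k⟩` for all `σ` in the group.
-/

set_option autoImplicit false

namespace Cfsg.Agent.OddHalf.D4.UnB

open Cfsg.Agent.LieClassical.HermBasic

universe u

/-- a nondegenerate hermitian space -/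
structure HS {F : Type*} [Field F] (q : ℕ) {V : Type*} [AddCommGroup V] [Module F V] (h : V → V → F) : Prop where
  add : ∀ x y z, h (x + y) z = h x z + h y z
  smul : ∀ (c : F) x y, h (c • x) y = c * h x y
  swap : ∀ x y, h y x = h x y ^ q
  nondeg : ∀ x, (∀ y, h x y = 0) → x = 0

/-- an action by semilinear isometries -/
structure Rep {F : Type*} [Field F] {V : Type*} [AddCommGroup V] [Module F V] (h : V → V → F) {P : Type*} [Group P]
    (ρ : P →* (F ≃+* F)) (σ : P → V → V) : Prop where
  one : ∀ x, σ 1 x = x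
  mul : ∀ a b x, σ (a * b) x = σ a (σ b x)
  add : ∀ a x y, σ a (x + y) = σ a x + σ a y
  smul : ∀ a (c : F) x, σ a (c • x) = ρ a c • σ a x
  herm : ∀ a x y, h (σ a x) (σ a y) = ρ a (h x y)

/-- a 2-group acting on a finite set with a fixed point free involution has an even number of fixed points -/
theorem exists_fix {P α : Type*} [Group P] [MulAction P α] [Finite α] (hP : IsPGroup 2 P) (φ : α → α)
    (h1 : ∀ x, φ (φ x) = x) (h2 : ∀ x, φ x ≠ x) {a : α} (ha : ∀ p : P, p • a = a) :
    ∃ b, b ≠ a ∧ ∀ p : P, p • b = b := by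
  classical
  have : Fact (Nat.Prime 2) := ⟨Nat.prime_two⟩
  have := Fintype.ofFinite α
  have h3 : (2 : ℕ) ∣ Nat.card α := by
    have hff : ∀ f : Function.End α, (∀ x, f (f x) = x) → f ^ 2 ^ 1 = 1 := by
      intro f hf
      rw [pow_one, pow_two]
      funext x
      exact hf x
    have h4 := Equiv.Perm.card_fixedPoints_modEq (α := α) (f := (φ : Function.End α)) (p := 2) (n := 1) (hff φ h1)
    have h5 : IsEmpty (Function.fixedPoints φ) := ⟨fun x => h2 _ x.2⟩
    rw [Nat.card_eq_fintype_card]
    have h6 : Fintype.card (Function.fixedPoints φ) = 0 := Fintype.card_eq_zero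
    apply (Nat.modEq_zero_iff_dvd).1
    refine h4.trans ?_
    rw [← h6]
  obtain ⟨b, hb, hab⟩ := hP.exists_fixed_point_of_prime_dvd_card_of_fixed_point α h3
    (a := a) (MulAction.mem_fixedPoints.2 ha)
  exact ⟨b, fun h => hab h.symm, MulAction.mem_fixedPoints.1 hb⟩

section

variable {F : Type*} [Field F] [Fintype F] {q : ℕ} {V : Type u} [AddCommGroup V] [Module F V]
  {h : V → V → F} {P : Type*} [Group P] {ρ : P →* (F ≃+* F)} {σ : P → V → V}

omit [Fintype F] in
theorem HS.zero_left (H : HS q h) (y : V) : h 0 y = 0 := by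
  have := H.smul 0 0 y
  rwa [zero_smul, zero_mul] at this

theorem HS.zero_right (hF : Fintype.card F = q ^ 2) (H : HS q h) (x : V) : h x 0 = 0 := by
  rw [H.swap 0 x, H.zero_left, zero_pow_q hF]

theorem HS.add_right (hF : Fintype.card F = q ^ 2) (H : HS q h) (x y z : V) : h x (y + z) = h x y + h x z := by
  rw [H.swap _ x, H.add, add_pow_q hF, ← H.swap, ← H.swap]

theorem HS.smul_right (_hF : Fintype.card F = q ^ 2) (H : HS q h) (c : F) (x y : V) :
    h x (c • y) = c ^ q * h x y := by
  rw [H.swap _ x, H.smul, mul_pow, ← H.swap]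

omit [Fintype F] in
theorem HS.sub (H : HS q h) (x y z : V) : h (x - y) z = h x z - h y z := by
  have := H.add (x - y) y z
  rw [sub_add_cancel] at this
  rw [this, add_sub_cancel_right]

omit [Fintype F] in
theorem Rep.zero (R : Rep h ρ σ) (a : P) : σ a 0 = 0 := by
  have := R.smul a 0 0
  rwa [zero_smul, map_zero, zero_smul] at this

omit [Fintype F] in
theorem Rep.sub (R : Rep h ρ σ) (a : P) (x y : V) : σ a (x - y) = σ a x - σ a y := by
  have := R.add a (x - y) y
  rw [sub_add_cancel] at this
  rw [this, add_sub_cancel_right]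

/-- the action on an invariant set -/
@[reducible] def Rep.act (R : Rep h ρ σ) (I : V → Prop) (hI : ∀ a x, I x → I (σ a x)) : MulAction P {x // I x} where
  smul a x := ⟨σ a x, hI a x x.2⟩
  one_smul x := Subtype.ext (R.one x)
  mul_smul a b x := Subtype.ext (R.mul a b x)

variable [Finite V] [CharP F 2]

omit [Fintype F] [CharP F 2] in
/-- fixed vectors -/
theorem Rep.exists_fix (R : Rep h ρ σ) (hP : IsPGroup 2 P) (I : V → Prop) (hI : ∀ a x, I x → I (σ a x)) (hI0 : I 0)
    (φ : V → V) (hφ : ∀ x, I x → I (φ x)) (h1 : ∀ x, I x → φ (φ x) = x) (h2 : ∀ x, I x → φ x ≠ x) :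
    ∃ x, x ≠ 0 ∧ I x ∧ ∀ a, σ a x = x := by
  let _ := R.act I hI
  obtain ⟨b, hb, hb'⟩ := UnB.exists_fix (P := P) (α := {x // I x}) hP (fun x => ⟨φ x, hφ x x.2⟩)
    (fun x => Subtype.ext (h1 x x.2)) (fun x hx => h2 x x.2 (congrArg Subtype.val hx)) (a := ⟨0, hI0⟩)
    (fun p => Subtype.ext (R.zero p))
  exact ⟨b, fun h0 => hb (Subtype.ext h0), b.2, fun a => congrArg Subtype.val (hb' a)⟩

omit [Fintype F] [Finite V] in
theorem two_self (F : Type*) [Field F] [CharP F 2] {V : Type*} [AddCommGroup V] [Module F V] (x : V) : x + x = 0 := by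
  have h1 : (2 : F) = 0 := CharTwo.two_eq_zero
  have h2 : x + x = (2 : F) • x := by rw [two_smul]
  rw [h2, h1, zero_smul]

/-- a fixed isotropic vector -/
theorem Rep.exists_iso (hF : Fintype.card F = q ^ 2) (H : HS q h) (R : Rep h ρ σ) (hP : IsPGroup 2 P) {u : V}
    (hu0 : u ≠ 0) (hu : h u u = 0) : ∃ x, x ≠ 0 ∧ h x x = 0 ∧ ∀ a, σ a x = x := by
  classical
  have hself : ∀ x, h x x = 0 → h (x + (if h x u = 0 then (1 : F) else h x u) • u)
      (x + (if h x u = 0 then (1 : F) else h x u) • u) = 0 := by
    intro x hx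
    rw [H.add, H.add_right hF, H.add_right hF, H.smul, H.smul, H.smul_right hF, H.smul_right hF, hu, hx,
      H.swap x u]
    split_ifs with h0
    · rw [h0, zero_pow_q hF]; ring
    · have h3 : h x u ^ q * h x u + h x u * h x u ^ q = 0 := by
        rw [mul_comm (h x u)]
        exact CharTwo.add_self_eq_zero _
      linear_combination h3
  have hpair : ∀ x, h (x + (if h x u = 0 then (1 : F) else h x u) • u) u = h x u := by
    intro x
    rw [H.add, H.smul, hu, mul_zero, add_zero]
  refine R.exists_fix hP (fun x => h x x = 0) (fun a x hx => by rw [R.herm, hx, map_zero]) (H.zero_left 0)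
    (fun x => x + (if h x u = 0 then (1 : F) else h x u) • u) hself ?_ ?_
  · intro x _
    simp only [hpair x]
    rw [add_assoc, two_self F, add_zero]
  · intro x _ hx
    simp only [add_eq_left] at hx
    rcases smul_eq_zero.1 hx with h3 | h3
    · split_ifs at h3 with h4
      · exact one_ne_zero h3
      · exact h4 h3
    · exact hu0 h3

omit [Fintype F] in
/-- a fixed vector -/
theorem Rep.exists_vec (R : Rep h ρ σ) (hP : IsPGroup 2 P) {u : V} (hu0 : u ≠ 0) :
    ∃ x, x ≠ 0 ∧ ∀ a, σ a x = x := by
  obtain ⟨x, h1, -, h2⟩ := R.exists_fix hP (fun _ => True) (fun _ _ _ => trivial) trivial (fun x => x + u)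
    (fun _ _ => trivial) (fun x _ => by rw [add_assoc, two_self F, add_zero])
    (fun x _ hx => hu0 (by rwa [add_eq_left] at hx))
  exact ⟨x, h1, h2⟩

end

/-- a Witt basis, fixed modulo the flag -/
structure WBasis {F : Type*} [Field F] {V : Type*} [AddCommGroup V] [Module F V] (h : V → V → F) {P : Type*}
    (σ : P → V → V) (n : ℕ) (v : ℕ → V) : Prop where
  gram : ∀ i < n, ∀ j < n, h (v i) (v j) = if i + j + 1 = n then 1 else 0
  span : ∀ x, (∀ i < n, h x (v i) = 0) → x = 0
  uni : ∀ a, ∀ k < n, ∀ i, i + k < n → h (σ a (v k) - v k) (v i) = 0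

section

variable {F : Type*} [Field F] [Fintype F] [CharP F 2] {q : ℕ} {P : Type*} [Group P] {ρ : P →* (F ≃+* F)}

/-- anisotropic spaces -/
theorem flag_aniso (hF : Fintype.card F = q ^ 2) (hP : IsPGroup 2 P) {V : Type u} [AddCommGroup V] [Module F V]
    [Finite V] {h : V → V → F} {σ : P → V → V} (H : HS q h) (R : Rep h ρ σ)
    (hno : ∀ u : V, h u u = 0 → u = 0) : ∃ (n : ℕ) (v : ℕ → V), WBasis h σ n v := by
  by_cases hV : ∀ x : V, x = 0
  · exact ⟨0, fun _ => 0, fun i hi => absurd hi (Nat.not_lt_zero i), fun x _ => hV x,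
      fun a k hk => absurd hk (Nat.not_lt_zero k)⟩
  push Not at hV
  obtain ⟨u, hu⟩ := hV
  obtain ⟨d, hd0, hd⟩ := R.exists_vec hP hu
  have hκ0 : h d d ≠ 0 := fun h0 => hd0 (hno d h0)
  have hκq : h d d ^ q = h d d := (H.swap d d).symm
  have hκρ : ∀ a, ρ a (h d d) = h d d := fun a => by rw [← R.herm, hd]
  have hinj : ∀ x y : F, x ^ 2 = y ^ 2 → x = y := fun x y hxy => by
    have h1 : (x - y) ^ 2 = 0 := by
      rw [sub_sq, hxy]
      have h2 : (2 : F) = 0 := CharTwo.two_eq_zero
      linear_combination (y ^ 2 - x * y) * h2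
    exact sub_eq_zero.1 (pow_eq_zero_iff (two_ne_zero)|>.1 h1)
  obtain ⟨l, hl⟩ : ∃ l : F, l ^ 2 = h d d := by
    have h1 : Function.Surjective (fun x : F => x ^ 2) := Finite.surjective_of_injective fun x y => hinj x y
    exact h1 _
  have hl0 : l ≠ 0 := by
    rintro rfl
    exact hκ0 (by rw [← hl]; ring)
  have hlq : l ^ q = l := hinj _ _ (by rw [← pow_mul, mul_comm, pow_mul, hl, hκq])
  have hlρ : ∀ a, ρ a l = l := fun a => hinj _ _ (by rw [← map_pow, hl, hκρ])
  have hdd : h (l⁻¹ • d) (l⁻¹ • d) = 1 := by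
    rw [H.smul, H.smul_right hF, inv_pow, hlq, ← hl]
    field_simp
  refine ⟨1, fun _ => l⁻¹ • d, ?_, ?_, ?_⟩
  · intro i hi j hj
    rw [if_pos (by omega), hdd]
  · intro x hx
    have h1 := hx 0 Nat.one_pos
    by_contra hx0
    obtain ⟨c, hc⟩ := exists_norm_eq hF (c := -h x x) (by rw [neg_pow_q hF, ← H.swap])
    have h2 : h (l⁻¹ • d) x = 0 := by rw [H.swap x, h1, zero_pow_q hF]
    have h3 := hno (x + c • (l⁻¹ • d)) (by
      rw [H.add, H.add_right hF, H.add_right hF, H.smul c, H.smul c, H.smul_right hF c, H.smul_right hF c, h1, h2, hdd]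
      linear_combination hc)
    have h4 : h (x + c • (l⁻¹ • d)) (l⁻¹ • d) = c := by
      rw [H.add, h1, H.smul c, hdd, zero_add, mul_one]
    rw [h3, H.zero_left] at h4
    rw [← h4, zero_smul, add_zero] at h3
    exact hx0 h3
  · intro a k _ i _
    rw [R.smul, map_inv₀, hlρ, hd, sub_self, H.zero_left]

/-- **The flag theorem.** -/
theorem flag_abs (hF : Fintype.card F = q ^ 2) (hP : IsPGroup 2 P) (N : ℕ) : ∀ (V : Type u) [AddCommGroup V]
    [Module F V] [Finite V] (h : V → V → F) (σ : P → V → V) (_ : HS q h) (_ : Rep h ρ σ) (_ : Nat.card V ≤ N),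
    ∃ (n : ℕ) (v : ℕ → V), WBasis h σ n v := by
  induction N with
  | zero =>
    intro V _ _ _ h σ H R hN
    have : Nonempty V := ⟨0⟩
    have := Nat.card_pos (α := V)
    omega
  | succ N ih =>
    intro V _ _ _ h σ H R hN
    by_cases hno : ∀ u : V, h u u = 0 → u = 0
    · exact flag_aniso hF hP H R hno
    push Not at hno
    obtain ⟨u, hu, hu0⟩ := hno
    obtain ⟨e, he0, he, hef⟩ := R.exists_iso hF H hP hu0 hu
    -- the partner
    obtain ⟨y, hy⟩ : ∃ y, h e y ≠ 0 := by
      by_contra hcon
      push Not at hcon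
      exact he0 (H.nondeg e hcon)
    obtain ⟨y', hy'⟩ : ∃ y', h e y' = 1 := by
      refine ⟨((h e y)⁻¹) ^ q • y, ?_⟩
      rw [H.smul_right hF, pow_q_pow_q hF, inv_mul_cancel₀ hy]
    obtain ⟨d, hd⟩ := exists_trace_eq hF (c := -h y' y') (by rw [neg_pow_q hF, ← H.swap])
    obtain ⟨f, hf, hf1, hf2⟩ : ∃ f, h f f = 0 ∧ h e f = 1 ∧ h f e = 1 := by
      have h1 : h y' e = 1 := by rw [H.swap e, hy', one_pow]
      have h2 : h e (y' + d • e) = 1 := by rw [H.add_right hF, H.smul_right hF, he, mul_zero, add_zero, hy']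
      refine ⟨y' + d • e, ?_, h2, ?_⟩
      · rw [H.add, H.smul, h2, H.add_right hF, H.smul_right hF, h1]
        linear_combination hd
      · rw [H.swap e, h2, one_pow]
    let W : Submodule F V :=
      { carrier := {w | h w e = 0 ∧ h w f = 0}
        zero_mem' := ⟨H.zero_left _, H.zero_left _⟩
        add_mem' := fun {a b} ha hb => ⟨by rw [H.add, ha.1, hb.1, add_zero], by rw [H.add, ha.2, hb.2, add_zero]⟩
        smul_mem' := fun c x hx => ⟨by rw [H.smul, hx.1, mul_zero], by rw [H.smul, hx.2, mul_zero]⟩ }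
    have hWmem : ∀ w, w ∈ W ↔ h w e = 0 ∧ h w f = 0 := fun _ => Iff.rfl
    have hproj : ∀ x, x - h x f • e - h x e • f ∈ W := by
      intro x
      rw [hWmem]
      constructor
      · rw [H.sub, H.sub, H.smul, H.smul, he, hf2]; ring
      · rw [H.sub, H.sub, H.smul, H.smul, hf, hf1]; ring
    have hHW : HS q (fun x y : W => h x y) := by
      refine ⟨fun x y z => H.add _ _ _, fun c x y => H.smul _ _ _, fun x y => H.swap _ _, ?_⟩
      intro x hx
      apply Subtype.ext
      apply H.nondeg
      intro y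
      have h1 := hx ⟨_, hproj y⟩
      have h2 : y = (y - h y f • e - h y e • f) + h y f • e + h y e • f := by abel
      rw [h2, H.add_right hF, H.add_right hF, H.smul_right hF, H.smul_right hF, x.2.1, x.2.2, mul_zero, mul_zero,
        add_zero, add_zero]
      exact h1
    have hσW : ∀ a (w : V), w ∈ W → σ a w - h (σ a w) f • e ∈ W := by
      intro a w hw
      rw [hWmem]
      constructor
      · have h1 : h (σ a w) e = 0 := by
          conv_lhs => rw [← hef a]
          rw [R.herm, hw.1, map_zero]
        rw [H.sub, H.smul, he, h1]; ring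
      · rw [H.sub, H.smul, hf1]; ring
    let τ : P → W → W := fun a w => ⟨σ a w - h (σ a w) f • e, hσW a w w.2⟩
    have hτ : ∀ a (w : W), (τ a w : V) = σ a w - h (σ a w) f • e := fun _ _ => rfl
    have huniq : ∀ (w w' : W) (c : F), (w : V) = w' + c • e → w = w' := by
      intro w w' c hc
      have h1 := w.2.2
      rw [hc, H.add, H.smul, w'.2.2, hf1, zero_add, mul_one] at h1
      apply Subtype.ext
      rw [hc, h1, zero_smul, add_zero]
    have hRW : Rep (fun x y : W => h x y) ρ τ := by
      refine ⟨?_, ?_, ?_, ?_, ?_⟩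
      · intro x
        refine huniq _ _ (-h (x : V) f) ?_
        rw [hτ, R.one, neg_smul]; abel
      · intro a b x
        refine huniq _ _ (-h (σ (a * b) x) f + ρ a (h (σ b x) f) + h (σ a (τ b x)) f) ?_
        rw [hτ, hτ a, hτ b, R.sub, R.smul, hef, ← R.mul]
        module
      · intro a x y
        apply Subtype.ext
        change σ a ((x : V) + y) - h (σ a ((x : V) + y)) f • e = (σ a x - h (σ a x) f • e) + (σ a y - h (σ a y) f • e)
        rw [R.add, H.add]
        module
      · intro a c x
        apply Subtype.ext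
        change σ a (c • (x : V)) - h (σ a (c • (x : V))) f • e = ρ a c • (σ a x - h (σ a x) f • e)
        rw [R.smul, H.smul]
        module
      · intro a x y
        have hx := (hσW a x x.2).1
        have hy := (hσW a y y.2).1
        have h1 : h e (σ a y) = 0 := by
          conv_lhs => rw [← hef a]
          rw [R.herm, H.swap (y : V), y.2.1, zero_pow_q hF, map_zero]
        have h2 : h (σ a x) e = 0 := by
          conv_lhs => rw [← hef a]
          rw [R.herm, x.2.1, map_zero]
        change h (σ a x - h (σ a x) f • e) (σ a y - h (σ a y) f • e) = ρ a (h x y)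
        have h3 : ∀ z, h z (σ a y - h (σ a y) f • e) = h z (σ a y) - (h (σ a y) f) ^ q * h z e := by
          intro z
          have h4 := H.add_right hF z (σ a y - h (σ a y) f • e) (h (σ a y) f • e)
          rw [sub_add_cancel, H.smul_right hF] at h4
          rw [h4, add_sub_cancel_right]
        rw [H.sub, H.smul, h3, h3, h1, h2, he, R.herm]
        ring
    have hlt : Nat.card W < Nat.card V := by
      have h1 : W ≠ ⊤ := by
        intro h2
        have h3 : f ∈ W := h2 ▸ Submodule.mem_top
        exact one_ne_zero (hf2.symm.trans h3.1)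
      have h2 : (W : Set V) ⊂ Set.univ := by
        rw [Set.ssubset_univ_iff]
        intro h3
        exact h1 (SetLike.coe_injective h3)
      have h3 := Set.ncard_lt_ncard h2 (Set.toFinite _)
      rwa [Set.ncard_univ, ← Nat.card_coe_set_eq] at h3
    obtain ⟨n, w, hw⟩ := ih W (fun x y : W => h x y) τ hHW hRW (by omega)
    have heW : ∀ x : W, h e x = 0 := fun x => by rw [H.swap (x : V), x.2.1, zero_pow_q hF]
    have hfW : ∀ x : W, h f x = 0 := fun x => by rw [H.swap (x : V), x.2.2, zero_pow_q hF]
    refine ⟨n + 2, fun i => if i = 0 then e else if i = n + 1 then f else (w (i - 1) : V), ?_, ?_, ?_⟩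
    · intro i hi j hj
      rcases Nat.eq_zero_or_pos i with hi0 | hi0
      · rw [if_pos hi0]
        rcases Nat.eq_zero_or_pos j with hj0 | hj0
        · rw [if_pos hj0, he, if_neg (by omega)]
        · rw [if_neg (by omega : ¬ j = 0)]
          by_cases hj1 : j = n + 1
          · rw [if_pos hj1, hf1, if_pos (by omega)]
          · rw [if_neg hj1, heW, if_neg (by omega)]
      · rw [if_neg (by omega : ¬ i = 0)]
        by_cases hi1 : i = n + 1
        · rw [if_pos hi1]
          rcases Nat.eq_zero_or_pos j with hj0 | hj0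
          · rw [if_pos hj0, hf2, if_pos (by omega)]
          · rw [if_neg (by omega : ¬ j = 0)]
            by_cases hj1 : j = n + 1
            · rw [if_pos hj1, hf, if_neg (by omega)]
            · rw [if_neg hj1, hfW, if_neg (by omega)]
        · rw [if_neg hi1]
          rcases Nat.eq_zero_or_pos j with hj0 | hj0
          · rw [if_pos hj0, (w (i - 1)).2.1, if_neg (by omega)]
          · rw [if_neg (by omega : ¬ j = 0)]
            by_cases hj1 : j = n + 1
            · rw [if_pos hj1, (w (i - 1)).2.2, if_neg (by omega)]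
            · rw [if_neg hj1]
              have h1 := hw.gram (i - 1) (by omega) (j - 1) (by omega)
              rw [h1]
              by_cases h2 : i + j + 1 = n + 2
              · rw [if_pos h2, if_pos (by omega)]
              · rw [if_neg h2, if_neg (by omega)]
    · intro x hx
      have h1 : h x e = 0 := by simpa using hx 0 (by omega)
      have h2 : h x f = 0 := by simpa using hx (n + 1) (by omega)
      have h3 := hw.span ⟨x, h1, h2⟩ (fun i hi => by
        have h4 := hx (i + 1) (by omega)
        rw [if_neg (by omega), if_neg (by omega), Nat.add_sub_cancel] at h4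
        exact h4)
      exact congrArg Subtype.val h3
    · intro a k hk i hik
      rcases Nat.eq_zero_or_pos k with hk0 | hk0
      · rw [if_pos hk0, hef, sub_self, H.zero_left]
      rw [if_neg (by omega : ¬ k = 0)]
      by_cases hk1 : k = n + 1
      · rw [if_pos hk1, if_pos (by omega : i = 0), H.sub]
        have h1 : h (σ a f) e = 1 := by
          conv_lhs => rw [← hef a]
          rw [R.herm, hf2, map_one]
        rw [h1, hf2, sub_self]
      rw [if_neg hk1]
      have h1 : σ a (w (k - 1) : V) - (w (k - 1) : V) =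
          ((τ a (w (k - 1)) - w (k - 1) : W) : V) + h (σ a (w (k - 1) : V)) f • e := by
        rw [Submodule.coe_sub, hτ]
        abel
      rw [h1, H.add, H.smul]
      rcases Nat.eq_zero_or_pos i with hi0 | hi0
      · rw [if_pos hi0, he, (τ a (w (k - 1)) - w (k - 1) : W).2.1]; ring
      · rw [if_neg (by omega : ¬ i = 0), if_neg (by omega : ¬ i = n + 1), heW]
        have h2 := hw.uni a (k - 1) (by omega) (i - 1) (by omega)
        rw [h2]; ring

end

end Cfsg.Agent.OddHalf.D4.UnB
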