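import Mathlib
import Cfsg.Agent.KFacts.Unit.OutHom

/-!
# ODD, D4, (1B): 2-groups of automorphisms of `PSU n F q`, definitions

`Wb q n v`: `v 0, …, v (n - 1)` is a Witt basis: `(v i, v j) = 1` if `i + j = n - 1`, `= 0` otherwise.
`Vf q n v a`: the span of `v 0, …, v (a - 1)`, given as `⟨v i | i < n - a⟩^⊥`.
`Ug q n v j`: the elements `g` of `SU n F q` with `(g - 1) V_a ≤ V_(a - j)` for all `a`.
`Uni q n v A ρ`: the semi-isometry `sg A ρ` fixes `v k` modulo `V_k` for all `k < n`.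
-/

set_option autoImplicit false

namespace Cfsg.Agent.OddHalf.D4.UnB

open Cfsg Cfsg.Agent.LieClassical.HermBasic Cfsg.Agent.LieClassical.HermSiegel
  Cfsg.Agent.LieClassical.HermGen Cfsg.Agent.LieClassical.SUBasic
  Cfsg.Agent.ClassicalGeometry.PSUAutBasic Cfsg.Agent.ClassicalGeometry.PSUAutUnip
  Cfsg.Agent.KFacts.Unit

open Cfsg.Agent.ClassicalGeometry.PSUAutCount (gm semiConj toAut)

variable {F : Type*} [Field F] {q n : ℕ}

/-- A Witt basis. -/
structure Wb (q : ℕ) {n : ℕ} (v : ℕ → Fin n → F) : Prop where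
  gram : ∀ i < n, ∀ j < n, hermForm n F q (v i) (v j) = if i + j + 1 = n then 1 else 0

/-- `⟨v i | i < a⟩`, as the space orthogonal to the `v i`, `i < n - a`. -/
def Vf (q : ℕ) (v : ℕ → Fin n → F) (a : ℕ) : Submodule F (Fin n → F) where
  carrier := {x | ∀ i, i + a < n → hermForm n F q x (v i) = 0}
  zero_mem' := fun _ _ => herm_zero_left _
  add_mem' := by
    intro x y hx hy i hi
    rw [herm_add_left, hx i hi, hy i hi, add_zero]
  smul_mem' := by
    intro c x hx i hi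
    rw [herm_smul_left, hx i hi, mul_zero]

theorem mem_Vf {v : ℕ → Fin n → F} {a : ℕ} {x : Fin n → F} :
    x ∈ Vf q v a ↔ ∀ i, i + a < n → hermForm n F q x (v i) = 0 := Iff.rfl

theorem Vf_mono {v : ℕ → Fin n → F} {a b : ℕ} (h : a ≤ b) : Vf q v a ≤ Vf q v b :=
  fun _ hx i hi => hx i (by omega)

theorem Vf_top {v : ℕ → Fin n → F} {a : ℕ} (h : n ≤ a) (x : Fin n → F) : x ∈ Vf q v a :=
  fun _ hi => by omega

theorem Wb.mem {v : ℕ → Fin n → F} (h : Wb q v) {k a : ℕ} (hk : k < a) (hn : k < n) : v k ∈ Vf q v a := by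
  intro i hi
  rw [h.gram k hn i (by omega), if_neg (by omega)]

/-- `sg A ρ` fixes `v k` modulo `V_k` -/
def Uni (q : ℕ) (v : ℕ → Fin n → F) (A : GU n F q) (ρ : F ≃+* F) : Prop :=
  ∀ k < n, sg A ρ (v k) - v k ∈ Vf q v k

end Cfsg.Agent.OddHalf.D4.UnB
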