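import Mathlib
import Cfsg.Agent.OddHalf.D4.UnB.Defs

/-!
# ODD, D4, (1B): the unitriangular group of a Witt basis

`Ug q v j`: the elements `g` of `SU n F q` with `(g - 1) V_a ≤ V_(a - j)` for all `a`.
`Rg q v t`: the elements of `Ug q v (t + 1)` whose leading coefficients `(g v_k - v_k, v_i)`, `k + i = n + t`, are in
`F_q`.
`Ln`: the lines `{siegel (v i) ((t * c) • v k) μ | t ∈ F_q}` (`μ = 0` unless `v k` is anisotropic).
-/

set_option autoImplicit false

namespace Cfsg.Agent.OddHalf.D4.UnB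

open Cfsg Cfsg.Agent.LieClassical.HermBasic Cfsg.Agent.LieClassical.HermSiegel
  Cfsg.Agent.LieClassical.HermGen Cfsg.Agent.LieClassical.SUBasic
  Cfsg.Agent.ClassicalGeometry.PSUAutBasic Cfsg.Agent.ClassicalGeometry.PSUAutUnip
  Cfsg.Agent.KFacts.Unit

variable {F : Type*} [Field F] [Fintype F] {q n : ℕ} {v : ℕ → Fin n → F}

/-! ### Witt bases -/

omit [Fintype F] in
theorem Wb.linInd (W : Wb q v) : LinearIndependent F (fun i : Fin n => v i) := by
  rw [Fintype.linearIndependent_iff]
  intro g hg i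
  have h1 := congrArg (fun x => hermForm n F q x (v (n - 1 - i))) hg
  simp only [herm_zero_left, herm_sum_left, herm_smul_left] at h1
  rw [Finset.sum_eq_single i] at h1
  · rwa [W.gram i i.2 _ (by omega), if_pos (by omega), mul_one] at h1
  · intro j _ hj
    have h2 : (j : ℕ) ≠ i := fun h => hj (Fin.ext h)
    rw [W.gram j j.2 _ (by omega), if_neg (by omega), mul_zero]
  · intro hi
    exact absurd (Finset.mem_univ i) hi

theorem Wb.eq_zero (hF : Fintype.card F = q ^ 2) (W : Wb q v) {x : Fin n → F}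
    (hx : ∀ i < n, hermForm n F q x (v i) = 0) : x = 0 := by
  apply herm_nondeg hF
  intro y
  have h1 : Submodule.span F (Set.range fun i : Fin n => v i) = ⊤ :=
    W.linInd.span_eq_top_of_card_eq_finrank' (by rw [Fintype.card_fin, Module.finrank_fin_fun])
  have hy : y ∈ Submodule.span F (Set.range fun i : Fin n => v i) := h1 ▸ Submodule.mem_top
  induction hy using Submodule.span_induction with
  | mem y hy =>
    obtain ⟨i, rfl⟩ := hy
    exact hx i i.2
  | zero => exact herm_zero_right hF _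
  | add y z _ _ hy hz => rw [herm_add_right hF, hy, hz, add_zero]
  | smul c y _ hy => rw [herm_smul_right, hy, mul_zero]

theorem Vf_zero (hF : Fintype.card F = q ^ 2) (W : Wb q v) {x : Fin n → F} (hx : x ∈ Vf q v 0) : x = 0 :=
  W.eq_zero hF fun i hi => hx i (by omega)

theorem Wb.expand (hF : Fintype.card F = q ^ 2) (W : Wb q v) (x : Fin n → F) :
    x = ∑ i ∈ Finset.range n, hermForm n F q x (v (n - 1 - i)) • v i := by
  rw [← sub_eq_zero]
  apply W.eq_zero hF
  intro j hj
  rw [herm_sub_left, herm_sum_left, Finset.sum_eq_single (n - 1 - j)]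
  · rw [herm_smul_left, W.gram _ (by omega) j hj, if_pos (by omega), mul_one,
      show n - 1 - (n - 1 - j) = j by omega, sub_self]
  · intro i hi hij
    have hi := Finset.mem_range.1 hi
    rw [herm_smul_left, W.gram i hi j hj, if_neg (by omega), mul_zero]
  · intro h
    exact absurd (Finset.mem_range.2 (by omega)) h

/-- induction over `V_a` -/
theorem Wb.induct (hF : Fintype.card F = q ^ 2) (W : Wb q v) {a : ℕ} {p : (Fin n → F) → Prop} (h0 : p 0)
    (hadd : ∀ x y, p x → p y → p (x + y)) (hsmul : ∀ (c : F) x, p x → p (c • x))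
    (hv : ∀ k < n, k < a → p (v k)) {x : Fin n → F} (hx : x ∈ Vf q v a) : p x := by
  rw [W.expand hF x]
  refine Finset.sum_induction _ p hadd h0 fun i hi => ?_
  have hi := Finset.mem_range.1 hi
  by_cases hia : i < a
  · exact hsmul _ _ (hv i hi hia)
  · rw [hx (n - 1 - i) (by omega), zero_smul]
    exact h0

/-! ### Levels -/

omit [Fintype F] in
theorem act_injective (g : SU n F q) : Function.Injective (act g) := fun x y h => by
  have := congrArg (act g⁻¹) h
  rwa [act_inv_act, act_inv_act] at this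

/-- The elements `g` with `(g - 1) V_a ≤ V_(a - j)` for all `a`. -/
def Ug (q : ℕ) (v : ℕ → Fin n → F) (j : ℕ) : Subgroup (SU n F q) where
  carrier := {g | ∀ a, ∀ x ∈ Vf q v a, act g x - x ∈ Vf q v (a - j)}
  one_mem' := fun a x _ => by rw [act_one, sub_self]; exact zero_mem _
  mul_mem' := by
    intro g h hg hh a x hx
    have h1 := hh a x hx
    have h2 := Vf_mono (v := v) (q := q) (show a - j - j ≤ a - j by omega) (hg _ _ h1)
    have h3 := hg a x hx
    have e1 : act (g * h) x - x = (act g (act h x - x) - (act h x - x)) + (act h x - x) + (act g x - x) := by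
      rw [act_mul, act_sub]; abel
    rw [e1]
    exact add_mem (add_mem h2 h1) h3
  inv_mem' := by
    intro g hg a y hy
    have h1 : ∀ x ∈ Vf q v a, act g x ∈ Vf q v a := by
      intro x hx
      have h2 := add_mem (Vf_mono (v := v) (q := q) (show a - j ≤ a by omega) (hg a x hx)) hx
      rwa [sub_add_cancel] at h2
    have h2 : Function.Surjective (fun x : ↥(Vf q v a) => (⟨act g x, h1 x x.2⟩ : ↥(Vf q v a))) := by
      apply Finite.surjective_of_injective
      intro x x' h
      exact Subtype.ext (act_injective g (congrArg Subtype.val h))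
    obtain ⟨x, hx⟩ := h2 ⟨y, hy⟩
    have h3 : act g x = y := congrArg Subtype.val hx
    rw [← h3, act_inv_act, ← neg_sub]
    exact neg_mem (hg a x x.2)

theorem mem_Ug {j : ℕ} {g : SU n F q} : g ∈ Ug q v j ↔ ∀ a, ∀ x ∈ Vf q v a, act g x - x ∈ Vf q v (a - j) := Iff.rfl

theorem Ug_anti {i j : ℕ} (h : i ≤ j) : Ug q v j ≤ Ug q v i :=
  fun _ hg a x hx => Vf_mono (by omega) (hg a x hx)

theorem mem_Ug_of (hF : Fintype.card F = q ^ 2) (W : Wb q v) {j : ℕ} {g : SU n F q}
    (h : ∀ k < n, act g (v k) - v k ∈ Vf q v (k + 1 - j)) : g ∈ Ug q v j := by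
  intro a x hx
  refine W.induct hF (p := fun x => act g x - x ∈ Vf q v (a - j)) ?_ ?_ ?_ ?_ hx
  · rw [act_zero, sub_self]; exact zero_mem _
  · intro x y hx hy
    have e1 : act g (x + y) - (x + y) = (act g x - x) + (act g y - y) := by rw [act_add]; abel
    rw [e1]
    exact add_mem hx hy
  · intro c x hx
    rw [act_smul, ← smul_sub]
    exact Submodule.smul_mem _ _ hx
  · intro k hk hka
    exact Vf_mono (by omega) (h k hk)

/-- the coefficients of `g - 1` -/
theorem Ug_coeff {j : ℕ} {g : SU n F q} (hg : g ∈ Ug q v j) {a b : ℕ} {x : Fin n → F} (hx : x ∈ Vf q v a)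
    (hb : b + a < n + j) (hbn : b < n) : hermForm n F q (act g x - x) (v b) = 0 :=
  hg a x hx b (by omega)

theorem Ug_top (hF : Fintype.card F = q ^ 2) (W : Wb q v) {g : SU n F q} (hg : g ∈ Ug q v n) : g = 1 := by
  apply ext_act
  intro x
  have h1 := hg n x (Vf_top le_rfl x)
  rw [Nat.sub_self] at h1
  rw [act_one]
  exact sub_eq_zero.1 (Vf_zero hF W h1)

/-- squares -/
theorem Ug_sq [CharP F 2] {j : ℕ} {g : SU n F q} (hg : g ∈ Ug q v j) : g * g ∈ Ug q v (j + j) := by
  intro a x hx
  have h1 := hg _ _ (hg a x hx)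
  have h2 : ∀ y : Fin n → F, y + y = 0 := fun y => by
    funext k
    exact CharTwo.add_self_eq_zero _
  have e1 : act (g * g) x - x = (act g (act g x - x) - (act g x - x)) + ((act g x - x) + (act g x - x)) := by
    rw [act_mul, act_sub]; abel
  rw [e1, h2, add_zero, show a - (j + j) = a - j - j by omega]
  exact h1

theorem isPGroup_Ug [CharP F 2] (hF : Fintype.card F = q ^ 2) (W : Wb q v) : IsPGroup 2 ↥(Ug q v 1) := by
  rintro ⟨g, hg⟩
  have h1 : ∀ k : ℕ, g ^ 2 ^ k ∈ Ug q v (2 ^ k) := by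
    intro k
    induction k with
    | zero => simpa using hg
    | succ k ih =>
      have h2 := Ug_sq ih
      rwa [← pow_add, show 2 ^ k + 2 ^ k = 2 ^ (k + 1) by rw [pow_succ]; ring] at h2
  refine ⟨n, Subtype.ext (Ug_top hF W (Ug_anti ?_ (h1 n)))⟩
  exact Nat.lt_two_pow_self.le

/-- `V_a` is invariant under `Ug` -/
theorem Ug_inv {j a : ℕ} {g : SU n F q} (hg : g ∈ Ug q v j) {x : Fin n → F} (hx : x ∈ Vf q v a) :
    act g x ∈ Vf q v a := by
  have h2 := add_mem (Vf_mono (v := v) (q := q) (show a - j ≤ a by omega) (hg a x hx)) hx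
  rwa [sub_add_cancel] at h2

/-- leading coefficients are additive -/
theorem lead_mul {t : ℕ} {g h : SU n F q} (hg : g ∈ Ug q v (t + 1)) (hh : h ∈ Ug q v (t + 1)) {a b : ℕ}
    {x : Fin n → F} (hx : x ∈ Vf q v a) (hb : b + a ≤ n + t + 1) (hbn : b < n) :
    hermForm n F q (act (g * h) x - x) (v b) =
      hermForm n F q (act g x - x) (v b) + hermForm n F q (act h x - x) (v b) := by
  have e1 : act (g * h) x - x = (act g (act h x - x) - (act h x - x)) + (act h x - x) + (act g x - x) := by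
    rw [act_mul, act_sub]; abel
  rw [e1, herm_add_left, herm_add_left, Ug_coeff hg (hh a x hx) (by omega) hbn]
  ring

/-- leading coefficient of the inverse -/
theorem lead_inv {t : ℕ} {g : SU n F q} (hg : g ∈ Ug q v (t + 1)) {a b : ℕ}
    {x : Fin n → F} (hx : x ∈ Vf q v a) (hb : b + a ≤ n + t + 1) (hbn : b < n) :
    hermForm n F q (act g⁻¹ x - x) (v b) = -hermForm n F q (act g x - x) (v b) := by
  have h1 := lead_mul hg (inv_mem hg) hx hb hbn
  rw [mul_inv_cancel, act_one, sub_self, herm_zero_left] at h1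
  linear_combination -h1

/-- The elements of level `t + 1` with leading coefficients in `F_q`. -/
def Rg (hF : Fintype.card F = q ^ 2) (W : Wb q v) (t : ℕ) : Subgroup (SU n F q) where
  carrier := {g | g ∈ Ug q v (t + 1) ∧ ∀ k < n, ∀ i < n, k + i = n + t →
    hermForm n F q (act g (v k) - v k) (v i) ^ q = hermForm n F q (act g (v k) - v k) (v i)}
  one_mem' := ⟨one_mem _, fun k _ i _ _ => by rw [act_one, sub_self, herm_zero_left, zero_pow_q hF]⟩
  mul_mem' := by
    rintro g h ⟨hg, hg'⟩ ⟨hh, hh'⟩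
    refine ⟨mul_mem hg hh, fun k hk i hi hki => ?_⟩
    rw [lead_mul hg hh (W.mem (Nat.lt_succ_self k) hk) (by omega) hi, add_pow_q hF, hg' k hk i hi hki,
      hh' k hk i hi hki]
  inv_mem' := by
    rintro g ⟨hg, hg'⟩
    refine ⟨inv_mem hg, fun k hk i hi hki => ?_⟩
    rw [lead_inv hg (W.mem (Nat.lt_succ_self k) hk) (by omega) hi, neg_pow_q hF, hg' k hk i hi hki]

theorem mem_Rg {hF : Fintype.card F = q ^ 2} {W : Wb q v} {t : ℕ} {g : SU n F q} :
    g ∈ Rg hF W t ↔ g ∈ Ug q v (t + 1) ∧ ∀ k < n, ∀ i < n, k + i = n + t →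
      hermForm n F q (act g (v k) - v k) (v i) ^ q = hermForm n F q (act g (v k) - v k) (v i) := Iff.rfl

theorem Rg_le {hF : Fintype.card F = q ^ 2} {W : Wb q v} {t : ℕ} : Rg hF W t ≤ Ug q v (t + 1) := fun _ h => h.1

theorem Ug_le_Rg {hF : Fintype.card F = q ^ 2} {W : Wb q v} {t : ℕ} : Ug q v (t + 2) ≤ Rg hF W t := by
  intro g hg
  refine ⟨Ug_anti (by omega) hg, fun k hk i hi hki => ?_⟩
  rw [Ug_coeff hg (W.mem (Nat.lt_succ_self k) hk) (by omega) hi, zero_pow_q hF]

/-! ### Lines -/

theorem isSiegel_line (_hF : Fintype.card F = q ^ 2) (W : Wb q v) {i k : ℕ} (hik : i < k ∧ i + k + 1 < n) {c μ : F}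
    (h : μ + μ ^ q + (if 2 * k + 1 = n then c * c ^ q else 0) = 0) : IsSiegel q (v i) (c • v k) μ := by
  refine ⟨by rw [W.gram i (by omega) i (by omega), if_neg (by omega)], ?_, ?_⟩
  · rw [herm_smul_left, W.gram k (by omega) i (by omega), if_neg (by omega), mul_zero]
  · rw [herm_smul_left, herm_smul_right, W.gram k (by omega) k (by omega)]
    by_cases hk : 2 * k + 1 = n
    · rw [if_pos hk] at h
      rw [if_pos (by omega), mul_one]
      exact h
    · rw [if_neg hk] at h
      rw [if_neg (by omega), mul_zero, mul_zero]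
      exact h

/-- **The lines.** -/
def Ln (hF : Fintype.card F = q ^ 2) (W : Wb q v) {i k : ℕ} (hik : i < k ∧ i + k + 1 < n) (c : F) :
    Subgroup (SU n F q) where
  carrier := {g | ∃ (t μ : F) (hs : IsSiegel q (v i) ((t * c) • v k) μ), t ^ q = t ∧ (2 * k + 1 ≠ n → μ = 0) ∧
    siegel hF (v i) ((t * c) • v k) μ hs = g}
  one_mem' := by
    have h0 : IsSiegel q (v i) (((0 : F) * c) • v k) 0 := by
      rw [zero_mul]
      exact isSiegel_line hF W hik (by rw [zero_pow_q hF, zero_mul, ite_self]; ring)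
    refine ⟨0, 0, h0, zero_pow_q hF, fun _ => rfl, ?_⟩
    apply ext_act
    intro x
    rw [act_siegel, act_one, zero_mul, zero_smul, herm_zero_right hF]
    simp
  mul_mem' := by
    rintro _ _ ⟨t, μ, hs, ht, hμ, rfl⟩ ⟨t', μ', hs', ht', hμ', rfl⟩
    have h1 := hs.mul hF hs'
    have e1 : (t * c) • v k + (t' * c) • v k = ((t + t') * c) • v k := by rw [← add_smul]; congr 1; ring
    have h2 : IsSiegel q (v i) (((t + t') * c) • v k) (μ + μ' - hermForm n F q ((t' * c) • v k) ((t * c) • v k)) := by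
      rw [← e1]; exact h1
    refine ⟨t + t', _, h2, by rw [add_pow_q hF, ht, ht'], fun hk => ?_, ?_⟩
    · rw [hμ hk, hμ' hk, herm_smul_left, herm_smul_right, W.gram k (by omega) k (by omega), if_neg (by omega)]
      ring
    · rw [siegel_mul]
      exact siegel_congr hF _ _ rfl e1.symm rfl
  inv_mem' := by
    rintro _ ⟨t, μ, hs, ht, hμ, rfl⟩
    have h1 := hs.inv hF
    have e1 : -((t * c) • v k) = ((-t) * c) • v k := by rw [neg_mul, neg_smul]
    have h2 : IsSiegel q (v i) (((-t) * c) • v k) (μ ^ q) := by rw [← e1]; exact h1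
    refine ⟨-t, _, h2, by rw [neg_pow_q hF, ht], fun hk => by rw [hμ hk, zero_pow_q hF], ?_⟩
    rw [siegel_inv]
    exact siegel_congr hF _ _ rfl e1.symm rfl

theorem mem_Ln {hF : Fintype.card F = q ^ 2} {W : Wb q v} {i k : ℕ} {hik : i < k ∧ i + k + 1 < n} {c : F}
    {g : SU n F q} : g ∈ Ln hF W hik c ↔ ∃ (t μ : F) (hs : IsSiegel q (v i) ((t * c) • v k) μ), t ^ q = t ∧
      (2 * k + 1 ≠ n → μ = 0) ∧ siegel hF (v i) ((t * c) • v k) μ hs = g := Iff.rfl

omit [Fintype F] in
theorem Wb.iso (W : Wb q v) {i : ℕ} (hi : 2 * i + 1 < n) : hermForm n F q (v i) (v i) = 0 := by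
  rw [W.gram i (by omega) i (by omega), if_neg (by omega)]

end Cfsg.Agent.OddHalf.D4.UnB
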