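import Mathlib
import Cfsg.Agent.OddHalf.D4.UnB.Level
import Cfsg.Agent.OddHalf.D4.UnB.FlagAbs
import Cfsg.Agent.OddHalf.D4.Free.AutFacts

/-!
# ODD, D4, (1B): the flag of a 2-group of automorphisms of `PSU n F q`

`exists_lift_group`: a 2-subgroup of `Aut (PSU n F q)` lifts to a 2-group of semilinear isometries.
`exists_flag`: `T` a Sylow 2-subgroup of `PSU n F q`, `A` good for `T`: there is a Witt basis `v` such that `T` is the
image of the unitriangular group and every element of `A` is `toAut M ρ` with `sg M ρ` unitriangular (`Uni`).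
-/

set_option autoImplicit false

namespace Cfsg.Agent.OddHalf.D4.UnB

open Cfsg Cfsg.Agent.LieClassical.HermBasic Cfsg.Agent.LieClassical.HermSiegel
  Cfsg.Agent.LieClassical.HermGen Cfsg.Agent.LieClassical.SUBasic
  Cfsg.Agent.ClassicalGeometry.PSUAutBasic Cfsg.Agent.ClassicalGeometry.PSUAutUnip
  Cfsg.Agent.KFacts.Unit Cfsg.Agent.OddHalf.D4.Free

open Cfsg.Agent.ClassicalGeometry.PSUAutCount (gm semiConj toAut)

variable {F : Type*} [Field F] [Fintype F] {q n : ℕ}

instance finite_ringAut : Finite (F ≃+* F) :=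
  Finite.of_injective (fun ρ : F ≃+* F => (ρ : F → F)) (fun _ _ h => RingEquiv.ext fun x => congrFun h x)

/-- semi-isometries with the automorphisms they induce -/
def RG (F : Type*) [Field F] [Fintype F] (q n : ℕ) (hF : Fintype.card F = q ^ 2) :
    Subgroup (Equiv.Perm (Fin n → F) × (F ≃+* F) × MulAut (PSU n F q)) :=
  let S : Submonoid (Equiv.Perm (Fin n → F) × (F ≃+* F) × MulAut (PSU n F q)) :=
    { carrier := {x | ∃ M : GU n F q, (∀ w, x.1 w = sg M x.2.1 w) ∧ x.2.2 = toAut M x.2.1}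
      one_mem' := by
        obtain ⟨A, h1, h2⟩ := exists_toAut_conj hF (1 : SU n F q)
        refine ⟨A, fun w => ?_, ?_⟩
        · rw [Prod.fst_one, Equiv.Perm.one_apply]
          exact ((h1 w).trans (act_one w)).symm
        · rw [map_one, map_one] at h2
          exact h2
      mul_mem' := by
        rintro x y ⟨A, hA, hA'⟩ ⟨B, hB, hB'⟩
        obtain ⟨C, hC, hC'⟩ := exists_toAut_mul hF A B x.2.1 y.2.1
        refine ⟨C, fun w => ?_, ?_⟩
        · rw [Prod.fst_mul, Equiv.Perm.mul_apply, hA, hB]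
          exact (hC w).symm
        · rw [Prod.snd_mul, Prod.snd_mul, hA', hB']
          exact hC' }
  { S with
    inv_mem' := by
      intro x hx
      have h1 : x ^ (orderOf x - 1) = x⁻¹ := by
        rw [eq_inv_iff_mul_eq_one, ← pow_succ, Nat.sub_add_cancel (orderOf_pos x), pow_orderOf_eq_one]
      have h0 : x ∈ S := hx
      have h2 : x ^ (orderOf x - 1) ∈ S := pow_mem h0 _
      rw [h1] at h2
      exact h2 }

theorem mem_RG {hF : Fintype.card F = q ^ 2} {x : Equiv.Perm (Fin n → F) × (F ≃+* F) × MulAut (PSU n F q)} :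
    x ∈ RG F q n hF ↔ ∃ M : GU n F q, (∀ w, x.1 w = sg M x.2.1 w) ∧ x.2.2 = toAut M x.2.1 := Iff.rfl

/-- every automorphism is induced by a semi-isometry -/
theorem RG_surj (hF : Fintype.card F = q ^ 2) (hn : 3 ≤ n) (h32 : ¬ (n = 3 ∧ q = 2)) (α : MulAut (PSU n F q)) :
    ∃ x ∈ RG F q n hF, x.2.2 = α := by
  obtain ⟨M, ρ, hM⟩ := Cfsg.Agent.ClassicalGeometry.PSUAutMain.exists_toAut (F := F) (q := q) (n := n) hF hn h32 α
  have hinj : Function.Injective (sg M ρ) := by
    intro x y h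
    have h1 : sg M ρ (x - y) = 0 := by
      have h2 := sg_add M ρ (x - y) y
      rw [sub_add_cancel] at h2
      rw [h] at h2
      exact (left_eq_add.1 (h2.trans (add_comm _ _)))
    exact sub_eq_zero.1 (sg_eq_zero M ρ h1)
  have hbij : Function.Bijective (sg M ρ) := ⟨hinj, fun x => exists_sg M ρ x⟩
  exact ⟨(Equiv.ofBijective _ hbij, ρ, α), ⟨M, fun _ => rfl, hM⟩, rfl⟩

/-- **A 2-group of automorphisms lifts to a 2-group of semilinear isometries.** -/
theorem exists_lift_group (hF : Fintype.card F = q ^ 2) (hn : 3 ≤ n) (h32 : ¬ (n = 3 ∧ q = 2))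
    {A : Subgroup (MulAut (PSU n F q))} (hA : IsPGroup 2 ↥A) :
    ∃ P : Subgroup (Equiv.Perm (Fin n → F) × (F ≃+* F) × MulAut (PSU n F q)), IsPGroup 2 ↥P ∧ P ≤ RG F q n hF ∧
      ∀ α ∈ A, ∃ x ∈ P, x.2.2 = α := by
  have : Fact (Nat.Prime 2) := ⟨Nat.prime_two⟩
  let π : ↥(RG F q n hF) →* MulAut (PSU n F q) :=
    ((MonoidHom.snd _ _).comp (MonoidHom.snd _ _)).comp (RG F q n hF).subtype
  have hπ : ∀ x, π x = (x : Equiv.Perm (Fin n → F) × (F ≃+* F) × MulAut (PSU n F q)).2.2 := fun _ => rfl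
  have hsurj : Function.Surjective (π.subgroupComap A) := by
    rintro ⟨α, hα⟩
    obtain ⟨x, hx, rfl⟩ := RG_surj hF hn h32 α
    exact ⟨⟨⟨x, hx⟩, hα⟩, rfl⟩
  obtain ⟨P⟩ : Nonempty (Sylow 2 ↥(A.comap π)) := inferInstance
  have h1 : (P : Subgroup ↥(A.comap π)).map (π.subgroupComap A) = ⊤ := by
    have h2 : IsPGroup 2 ↥(⊤ : Subgroup ↥A) := hA.to_subgroup ⊤
    have h3 := (P.mapSurjective hsurj).is_maximal' h2 le_top
    rw [← Sylow.coe_mapSurjective hsurj P]
    exact h3.symm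
  refine ⟨((P : Subgroup ↥(A.comap π)).map (A.comap π).subtype).map (RG F q n hF).subtype,
    (P.isPGroup'.map _).map _, ?_, ?_⟩
  · rintro _ ⟨y, -, rfl⟩
    exact y.2
  · intro α hα
    have h2 : (⟨α, hα⟩ : ↥A) ∈ (P : Subgroup ↥(A.comap π)).map (π.subgroupComap A) := h1 ▸ Subgroup.mem_top _
    obtain ⟨y, hy, hyα⟩ := h2
    exact ⟨_, ⟨_, ⟨y, hy, rfl⟩, rfl⟩, congrArg Subtype.val hyα⟩

/-- **The flag theorem for a 2-group of automorphisms.** -/
theorem exists_flag0 [CharP F 2] (hF : Fintype.card F = q ^ 2) (hn : 3 ≤ n) (h32 : ¬ (n = 3 ∧ q = 2))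
    {A : Subgroup (MulAut (PSU n F q))} (hA : IsPGroup 2 ↥A) :
    ∃ v : ℕ → Fin n → F, Wb q v ∧ ∀ e ∈ A, ∃ (M : GU n F q) (ρ : F ≃+* F), e = toAut M ρ ∧ Uni q v M ρ := by
  obtain ⟨P, hP, hPR, hPA⟩ := exists_lift_group hF hn h32 hA
  let ρ : ↥P →* (F ≃+* F) := ((MonoidHom.fst _ _).comp (MonoidHom.snd _ _)).comp P.subtype
  let σ : ↥P → (Fin n → F) → (Fin n → F) := fun x w => (x : Equiv.Perm (Fin n → F) × (F ≃+* F) × MulAut (PSU n F q)).1 w
  have hσ : ∀ x : ↥P, ∃ M : GU n F q, (∀ w, σ x w = sg M (ρ x) w) ∧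
      (x : Equiv.Perm (Fin n → F) × (F ≃+* F) × MulAut (PSU n F q)).2.2 = toAut M (ρ x) := fun x => hPR x.2
  have hH : HS q (hermForm n F q) := ⟨fun x y z => herm_add_left x y z, fun c x y => herm_smul_left c x y,
    fun x y => herm_swap hF x y, fun x hx => herm_nondeg hF hx⟩
  have hR : Rep (hermForm n F q) ρ σ := by
    refine ⟨fun x => rfl, fun a b x => rfl, ?_, ?_, ?_⟩
    · intro a x y
      obtain ⟨M, hM, -⟩ := hσ a
      rw [hM, hM, hM, sg_add]
    · intro a c x
      obtain ⟨M, hM, -⟩ := hσ a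
      rw [hM, hM, sg_smul]
    · intro a x y
      obtain ⟨M, hM, -⟩ := hσ a
      rw [hM, hM, herm_sg]
  obtain ⟨m, v, hv⟩ := flag_abs hF hP _ (Fin n → F) (hermForm n F q) σ hH hR le_rfl
  -- the dimension
  have hmn : m = n := by
    apply le_antisymm
    · have h1 : LinearIndependent F (fun i : Fin m => v i) := by
        rw [Fintype.linearIndependent_iff]
        intro g hg i
        have h1 := congrArg (fun x => hermForm n F q x (v (m - 1 - i))) hg
        simp only [herm_zero_left, herm_sum_left, herm_smul_left] at h1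
        rw [Finset.sum_eq_single i] at h1
        · rwa [hv.gram i i.2 _ (by omega), if_pos (by omega), mul_one] at h1
        · intro j _ hj
          have h2 : (j : ℕ) ≠ i := fun h => hj (Fin.ext h)
          rw [hv.gram j j.2 _ (by omega), if_neg (by omega), mul_zero]
        · intro hi
          exact absurd (Finset.mem_univ i) hi
      have h2 := h1.fintype_card_le_finrank
      rwa [Fintype.card_fin, Module.finrank_fin_fun] at h2
    · let L : (Fin n → F) →ₗ[F] (Fin m → F) :=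
        { toFun := fun x i => hermForm n F q x (v i)
          map_add' := fun x y => by funext i; exact herm_add_left _ _ _
          map_smul' := fun c x => by funext i; exact herm_smul_left _ _ _ }
      have h1 : Function.Injective L := by
        rw [← LinearMap.ker_eq_bot, LinearMap.ker_eq_bot']
        intro x hx
        exact hv.span x fun i hi => congrFun hx ⟨i, hi⟩
      have h2 := LinearMap.finrank_le_finrank_of_injective h1
      rwa [Module.finrank_fin_fun, Module.finrank_fin_fun] at h2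
  subst hmn
  refine ⟨v, ⟨hv.gram⟩, fun e he => ?_⟩
  obtain ⟨x, hx, rfl⟩ := hPA e he
  obtain ⟨M, hM, hM'⟩ := hσ ⟨x, hx⟩
  refine ⟨M, ρ ⟨x, hx⟩, hM', fun k hk i hi => ?_⟩
  rw [← hM]
  exact hv.uni _ k hk i hi

/-- **The flag theorem.** -/
theorem exists_flag [CharP F 2] (hF : Fintype.card F = q ^ 2) (hn : 3 ≤ n) (h32 : ¬ (n = 3 ∧ q = 2))
    (T : Sylow 2 (PSU n F q)) {A : Subgroup (MulAut (PSU n F q))} (hA : GoodA T A) :
    ∃ v : ℕ → Fin n → F, Wb q v ∧ (T : Subgroup (PSU n F q)) = (Ug q v 1).map (pr n F q) ∧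
      ∀ e ∈ A, ∃ (M : GU n F q) (ρ : F ≃+* F), e = toAut M ρ ∧ Uni q v M ρ := by
  have h2 : Fact (Nat.Prime 2) := ⟨Nat.prime_two⟩
  obtain ⟨v, W, hv⟩ := exists_flag0 hF hn h32 hA.two
  refine ⟨v, W, ?_, hv⟩
  have hle : (T : Subgroup (PSU n F q)) ≤ (Ug q v 1).map (pr n F q) := by
    intro t ht
    obtain ⟨k, hk⟩ := T.isPGroup' ⟨t, ht⟩
    have hk' : t ^ 2 ^ k = 1 := congrArg Subtype.val hk
    obtain ⟨s, rfl, l, hl⟩ := exists_lift hF hn hk'
    refine ⟨s, ?_, rfl⟩
    obtain ⟨M, ρ, h1, hU⟩ := hv _ (hA.inn _ ht)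
    obtain ⟨B, hB, h3⟩ := exists_toAut_conj hF s
    rw [h3] at h1
    obtain ⟨hρ, c, hc, hcM⟩ := Cfsg.Agent.ClassicalGeometry.PSUAutCount.eq_of_toAut_eq hF hn h1
    subst hρ
    have h4 : ∀ w, sg M 1 w = c • act s w := by
      intro w
      rw [← hB, sg, hcM, Matrix.smul_mulVec]
      rfl
    have hc0 : c ≠ 0 := by
      rintro rfl
      rw [zero_mul] at hc
      exact zero_ne_one hc
    have hv0 : v 0 ≠ 0 := by
      intro h0
      have h5 := W.gram 0 (by omega) (n - 1) (by omega)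
      rw [h0, herm_zero_left, if_pos (by omega)] at h5
      exact zero_ne_one h5
    have h5 : sg M 1 (v 0) = v 0 := sub_eq_zero.1 (Vf_zero hF W (hU 0 (by omega)))
    rw [h4] at h5
    have h6 : act s (v 0) = c⁻¹ • v 0 := by rw [← h5, smul_smul, inv_mul_cancel₀ hc0, one_smul, h5]
    have h7 := fix_of_pow 2 hv0 h6 hl
    have hc1 : c = 1 := by
      rw [h7] at h5
      have h8 : (c - 1) • v 0 = 0 := by rw [sub_smul, one_smul, h5, sub_self]
      exact sub_eq_zero.1 ((smul_eq_zero.1 h8).resolve_right hv0)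
    refine mem_Ug_of hF W fun k hk => ?_
    have h8 := hU k hk
    rw [h4, hc1, one_smul] at h8
    exact h8
  exact (T.is_maximal' ((isPGroup_Ug hF W).map _) hle).symm

end Cfsg.Agent.OddHalf.D4.UnB
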