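import Mathlib
import Cfsg.Agent.OddHalf.D4.UnB.Lift

/-!
# ODD, D4, (1B): centralizers of the lines of the unitriangular group

`toAut M ρ` with `sg M ρ` unitriangular (`Uni`), `ρ` trivial on `F_q`, an involution: if it fixes one element
`siegel (v i) (t • w) μ`, `t ≠ 0`, of a line then it fixes the whole line (`star_Ln`, `star_transv`).
-/

set_option autoImplicit false

namespace Cfsg.Agent.OddHalf.D4.UnB

open Cfsg Cfsg.Agent.LieClassical.HermBasic Cfsg.Agent.LieClassical.HermSiegel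
  Cfsg.Agent.LieClassical.HermGen Cfsg.Agent.LieClassical.SUBasic
  Cfsg.Agent.ClassicalGeometry.PSUAutBasic Cfsg.Agent.ClassicalGeometry.PSUAutUnip
  Cfsg.Agent.ClassicalGeometry.PSUAutSylow Cfsg.Agent.ClassicalGeometry.PSUAutExt
  Cfsg.Agent.KFacts.Unit Cfsg.Agent.OddHalf.D4.Free

open Cfsg.Agent.ClassicalGeometry.PSUAutCount (gm semiConj toAut)

variable {F : Type*} [Field F] [Fintype F] {q n : ℕ} {v : ℕ → Fin n → F}

/-- an automorphism trivial on `F_q` is `1` or `x ↦ x ^ q` -/
theorem ringAut_dich (hF : Fintype.card F = q ^ 2) {ρ : F ≃+* F} (hρ : ∀ x : F, x ^ q = x → ρ x = x) :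
    (∀ x, ρ x = x) ∨ ∀ x, ρ x = x ^ q := by
  have h1 : ∀ x, ρ x = x ∨ ρ x = x ^ q := by
    intro x
    have h2 := hρ (x + x ^ q) (by rw [add_pow_q hF, pow_q_pow_q hF, add_comm])
    have h3 := hρ (x * x ^ q) (norm_pow_q hF x)
    rw [map_add, map_pow] at h2
    rw [map_mul, map_pow] at h3
    have h4 : (ρ x - x) * (ρ x - x ^ q) = 0 := by
      linear_combination (ρ x) * h2 - h3
    rcases mul_eq_zero.1 h4 with h5 | h5
    · exact Or.inl (sub_eq_zero.1 h5)
    · exact Or.inr (sub_eq_zero.1 h5)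
  by_contra hcon
  push Not at hcon
  obtain ⟨⟨a, ha⟩, b, hb⟩ := hcon
  have ha' := (h1 a).resolve_left ha
  have hb' := (h1 b).resolve_right hb
  have h2 := h1 (a + b)
  rw [map_add, add_pow_q hF, ha', hb', add_left_inj, add_right_inj] at h2
  rcases h2 with h2 | h2
  · exact ha (ha'.trans h2)
  · exact hb (hb'.trans h2)

/-- an automorphism fixing a Siegel element -/
theorem fix_siegel_iff (hF : Fintype.card F = q ^ 2) (hn : 3 ≤ n) (M : GU n F q) (ρ : F ≃+* F) {u w : Fin n → F}
    {μ : F} (h : IsSiegel q u w μ) :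
    toAut M ρ (pr n F q (siegel hF u w μ h)) = pr n F q (siegel hF u w μ h) ↔
      ∀ x, hermForm n F q x (sg M ρ u) • sg M ρ w + (ρ μ * hermForm n F q x (sg M ρ u) -
        hermForm n F q x (sg M ρ w)) • sg M ρ u =
        hermForm n F q x u • w + (μ * hermForm n F q x u - hermForm n F q x w) • u := by
  rw [Cfsg.Agent.ClassicalGeometry.PSUAutMain.toAut_pr', semiConj_siegel]
  constructor
  · intro h1 x
    have h2 := congrArg (fun g => act g x) (siegel_pr_inj hF hn _ _ h1)
    simp only [act_siegel] at h2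
    rw [add_assoc, add_assoc, add_right_inj] at h2
    exact h2
  · intro h1
    congr 1
    apply ext_act
    intro x
    rw [act_siegel, act_siegel, add_assoc, add_assoc, add_right_inj]
    exact h1 x

/-- transvections -/
theorem star_transv (hF : Fintype.card F = q ^ 2) (hn : 3 ≤ n) {M : GU n F q} {ρ : F ≃+* F}
    (hρ : ∀ x : F, x ^ q = x → ρ x = x) {u : Fin n → F} (hu : hermForm n F q u u = 0) {μ μ' : F}
    (hμ : μ + μ ^ q = 0) (hμ' : μ' + μ' ^ q = 0) (hq : μ ^ q = μ) (hq' : μ' ^ q = μ') (hμ0 : μ ≠ 0)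
    (h : toAut M ρ (pr n F q (transv hF u hu μ hμ)) = pr n F q (transv hF u hu μ hμ)) :
    toAut M ρ (pr n F q (transv hF u hu μ' hμ')) = pr n F q (transv hF u hu μ' hμ') := by
  rw [transv, fix_siegel_iff hF hn] at h ⊢
  intro x
  have h1 := h x
  simp only [sg_zero, smul_zero, zero_add, herm_zero_right hF, sub_zero, hρ μ hq, hρ μ' hq', mul_smul] at h1 ⊢
  have h2 : hermForm n F q x (sg M ρ u) • sg M ρ u = hermForm n F q x u • u := by
    have h3 := congrArg (fun y => μ⁻¹ • y) h1
    simpa only [smul_smul, inv_mul_cancel_left₀ hμ0] using h3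
  rw [h2]

/-- short lines -/
theorem star_short (hF : Fintype.card F = q ^ 2) (hn : 3 ≤ n) {M : GU n F q} {ρ : F ≃+* F}
    (hρ : ∀ x : F, x ^ q = x → ρ x = x) {u w : Fin n → F} {t t' : F} (ht : t ^ q = t) (ht' : t' ^ q = t')
    (ht0 : t ≠ 0) (hs : IsSiegel q u (t • w) 0) (hs' : IsSiegel q u (t' • w) 0)
    (h : toAut M ρ (pr n F q (siegel hF u (t • w) 0 hs)) = pr n F q (siegel hF u (t • w) 0 hs)) :
    toAut M ρ (pr n F q (siegel hF u (t' • w) 0 hs')) = pr n F q (siegel hF u (t' • w) 0 hs') := by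
  rw [fix_siegel_iff hF hn] at h ⊢
  intro x
  have key : ∀ (s : F), s ^ q = s → ∀ a b : Fin n → F,
      hermForm n F q x a • (s • b) + (0 * hermForm n F q x a - hermForm n F q x (s • b)) • a =
        s • (hermForm n F q x a • b - hermForm n F q x b • a) := by
    intro s hs a b
    rw [herm_smul_right, hs]
    module
  have h1 := h x
  rw [sg_smul, hρ t ht, map_zero, key t ht, key t ht] at h1
  rw [sg_smul, hρ t' ht', map_zero, key t' ht', key t' ht']
  congr 1
  have h3 := congrArg (fun y => t⁻¹ • y) h1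
  simpa only [smul_smul, inv_mul_cancel₀ ht0, one_smul] using h3

/-- the square of a unitriangular semi-isometry inducing an involution -/
theorem Uni.sq (hF : Fintype.card F = q ^ 2) (hn : 3 ≤ n) (W : Wb q v) {M : GU n F q} {ρ : F ≃+* F}
    (hU : Uni q v M ρ) (h : toAut M ρ * toAut M ρ = 1) : ∀ x, sg M ρ (sg M ρ x) = x := by
  obtain ⟨B, hB, h1⟩ := exists_toAut_mul hF M M ρ ρ
  obtain ⟨A, hA, h2⟩ := exists_toAut_conj hF (1 : SU n F q)
  rw [map_one, map_one] at h2
  rw [h, h2] at h1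
  obtain ⟨hρ, c, hc, hcM⟩ := Cfsg.Agent.ClassicalGeometry.PSUAutCount.eq_of_toAut_eq hF hn h1
  have h4 : ∀ w, sg M ρ (sg M ρ w) = c • w := by
    intro w
    rw [← hB, hρ, sg, hcM, Matrix.smul_mulVec]
    have h5 := hA w
    rw [sg, act_one] at h5
    rw [h5]
  have h0 : sg M ρ (v 0) = v 0 := sub_eq_zero.1 (Vf_zero hF W (hU 0 (by omega)))
  have hv0 : v 0 ≠ 0 := by
    intro h0
    have h5 := W.gram 0 (by omega) (n - 1) (by omega)
    rw [h0, herm_zero_left, if_pos (by omega)] at h5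
    exact zero_ne_one h5
  have h5 := h4 (v 0)
  rw [h0, h0] at h5
  have h8 : (c - 1) • v 0 = 0 := by rw [sub_smul, one_smul, ← h5, sub_self]
  intro x
  rw [h4, sub_eq_zero.1 ((smul_eq_zero.1 h8).resolve_right hv0), one_smul]

/-- an automorphism fixing a transvection fixes the vector -/
theorem Uni.fix_of_transv (hF : Fintype.card F = q ^ 2) (hn : 3 ≤ n) (W : Wb q v) {M : GU n F q} {ρ : F ≃+* F}
    (hU : Uni q v M ρ) {i : ℕ} (hi : i < n) {μ : F} (hμ0 : μ ≠ 0) (hs : IsSiegel q (v i) 0 μ)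
    (h : toAut M ρ (pr n F q (siegel hF (v i) 0 μ hs)) = pr n F q (siegel hF (v i) 0 μ hs)) :
    sg M ρ (v i) = v i := by
  have hv0 : v i ≠ 0 := by
    intro h0
    have h5 := W.gram i hi (n - 1 - i) (by omega)
    rw [h0, herm_zero_left, if_pos (by omega)] at h5
    exact zero_ne_one h5
  obtain ⟨c, -, hc⟩ := scalar_of_fix_transv hF hn M ρ hv0 hμ0 hs h
  have h1 := hU i hi (n - 1 - i) (by omega)
  rw [hc, herm_sub_left, herm_smul_left, W.gram i hi _ (by omega), if_pos (by omega), mul_one] at h1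
  rw [hc, sub_eq_zero.1 h1, one_smul]

/-- lines with an anisotropic vector -/
theorem star_mid [CharP F 2] (hF : Fintype.card F = q ^ 2) (hn : 3 ≤ n) (W : Wb q v) {M : GU n F q} {ρ : F ≃+* F}
    (hU : Uni q v M ρ) (hρ : ∀ x : F, x ^ q = x → ρ x = x) (h2 : toAut M ρ * toAut M ρ = 1) {i : ℕ} (hi : i < n)
    {w : Fin n → F} (hw : hermForm n F q w w ≠ 0) {t t' μ μ' : F} (ht : t ^ q = t) (ht' : t' ^ q = t')
    (ht0 : t ≠ 0) (hs : IsSiegel q (v i) (t • w) μ) (hs' : IsSiegel q (v i) (t' • w) μ')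
    (h : toAut M ρ (pr n F q (siegel hF (v i) (t • w) μ hs)) = pr n F q (siegel hF (v i) (t • w) μ hs)) :
    toAut M ρ (pr n F q (siegel hF (v i) (t' • w) μ' hs')) = pr n F q (siegel hF (v i) (t' • w) μ' hs') := by
  have htwo : ∀ x : F, x + x = 0 := fun x => CharTwo.add_self_eq_zero x
  have hv0 : v i ≠ 0 := by
    intro h0
    have h5 := W.gram i hi (n - 1 - i) (by omega)
    rw [h0, herm_zero_left, if_pos (by omega)] at h5
    exact zero_ne_one h5
  have htw : hermForm n F q (t • w) (t • w) = t * (t * hermForm n F q w w) := by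
    rw [herm_smul_left, herm_smul_right, ht]
  -- the square is a transvection
  have hu : sg M ρ (v i) = v i := by
    have h3 : siegel hF (v i) (t • w) μ hs * siegel hF (v i) (t • w) μ hs =
        siegel hF (v i) 0 (-hermForm n F q (t • w) (t • w)) ⟨hs.iso, herm_zero_left _, by
          rw [herm_zero_left, neg_pow_q hF, herm_self_pow hF, add_zero, ← neg_add, htwo, neg_zero]⟩ := by
      rw [siegel_mul]
      refine siegel_congr hF _ _ rfl ?_ ?_
      · funext k
        exact CharTwo.add_self_eq_zero _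
      · rw [htwo, zero_sub]
    have h4 := congrArg (fun x => x * x) h
    simp only [← map_mul] at h4
    rw [h3] at h4
    refine hU.fix_of_transv hF hn W hi ?_ _ h4
    rw [htw]
    exact neg_ne_zero.2 (mul_ne_zero ht0 (mul_ne_zero ht0 hw))
  obtain ⟨f, -, huf, hfu⟩ := exists_partner hF hv0 hs.iso
  rw [fix_siegel_iff hF hn] at h ⊢
  simp only [sg_smul, hρ t ht, hρ t' ht', hu] at h ⊢
  -- `y w = w + d u`
  obtain ⟨d, hd⟩ : ∃ d : F, sg M ρ w = w + d • v i := by
    have h3 := h f
    rw [hfu, mul_one, mul_one, one_smul, one_smul] at h3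
    refine ⟨t⁻¹ * (μ - hermForm n F q f (t • w) - (ρ μ - hermForm n F q f (t • sg M ρ w))), ?_⟩
    have h4 : t • sg M ρ w = t • w + (μ - hermForm n F q f (t • w) - (ρ μ - hermForm n F q f (t • sg M ρ w))) • v i := by
      rw [sub_smul (μ - hermForm n F q f (t • w)), ← add_sub_assoc, ← h3]
      abel
    have h5 := congrArg (fun y => t⁻¹ • y) h4
    simp only [smul_add, smul_smul, inv_mul_cancel₀ ht0, one_smul] at h5
    exact h5
  have hiff : ∀ (s ν : F), s ^ q = s → ∀ x, hermForm n F q x (v i) • s • sg M ρ w + (ρ ν * hermForm n F q x (v i) -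
        hermForm n F q x (s • sg M ρ w)) • v i =
        hermForm n F q x (v i) • s • w + (ν * hermForm n F q x (v i) - hermForm n F q x (s • w)) • v i +
          (hermForm n F q x (v i) * (s * d - s * d ^ q + ρ ν - ν)) • v i := by
    intro s ν hs x
    rw [hd, herm_smul_right, herm_smul_right, herm_add_right hF, herm_smul_right, hs]
    module
  have hd2 : t * d - t * d ^ q + ρ μ - μ = 0 := by
    have h3 := h f
    rw [hiff t μ ht f, add_eq_left, hfu, one_mul] at h3
    exact (smul_eq_zero.1 h3).resolve_right hv0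
  intro x
  rw [hiff t' μ' ht' x, add_eq_left]
  have hgoal : t' * d - t' * d ^ q + ρ μ' - μ' = 0 := by
    rcases ringAut_dich hF hρ with h3 | h3
    · rw [h3] at hd2 ⊢
      have h4 : t * (d - d ^ q) = 0 := by linear_combination hd2
      have h5 := (mul_eq_zero.1 h4).resolve_left ht0
      linear_combination t' * h5
    · exfalso
      -- `y² = 1`
      have h4 := hU.sq hF hn W h2 w
      rw [hd, sg_add, sg_smul, hd, hu, h3, add_assoc, ← add_smul, add_eq_left] at h4
      have h5 := (smul_eq_zero.1 h4).resolve_right hv0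
      have h6 : d = d ^ q := by
        have h7 := htwo (d ^ q)
        linear_combination h5 - h7
      rw [h3] at hd2
      have h7 : μ ^ q - μ = 0 := by linear_combination hd2 - t * h6
      have h8 := hs.tr
      have h9 : hermForm n F q (t • w) (t • w) = 0 := by
        have h10 := htwo μ
        linear_combination h8 - h7 - h10
      rw [htw] at h9
      exact (mul_ne_zero ht0 (mul_ne_zero ht0 hw)) h9
  rw [hgoal, mul_zero, zero_smul]

/-- **star for the lines `Ln`** -/
theorem star_Ln [CharP F 2] (hF : Fintype.card F = q ^ 2) (hn : 3 ≤ n) (W : Wb q v) {M : GU n F q} {ρ : F ≃+* F}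
    (hU : Uni q v M ρ) (hρ : ∀ x : F, x ^ q = x → ρ x = x) (h2 : toAut M ρ * toAut M ρ = 1) {i k : ℕ}
    {hik : i < k ∧ i + k + 1 < n} {c : F} (hc : c ≠ 0) {t μ : F} (hs : IsSiegel q (v i) ((t * c) • v k) μ)
    (ht : t ^ q = t) (ht0 : t ≠ 0) (hμ : 2 * k + 1 ≠ n → μ = 0)
    (h : toAut M ρ (pr n F q (siegel hF (v i) ((t * c) • v k) μ hs)) = pr n F q (siegel hF (v i) ((t * c) • v k) μ hs))
    {x : SU n F q} (hx : x ∈ Ln hF W hik c) : toAut M ρ (pr n F q x) = pr n F q x := by
  obtain ⟨t', μ', hs', ht', hμ', rfl⟩ := hx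
  have e1 : ∀ s : F, (s * c) • v k = s • c • v k := fun s => mul_smul _ _ _
  have g1 : ∀ (s ν : F) (a : IsSiegel q (v i) ((s * c) • v k) ν), IsSiegel q (v i) (s • c • v k) ν := fun s ν a => by
    rw [← e1]; exact a
  have g2 : ∀ (s ν : F) (a : IsSiegel q (v i) ((s * c) • v k) ν), siegel hF (v i) ((s * c) • v k) ν a =
      siegel hF (v i) (s • c • v k) ν (g1 s ν a) := fun s ν a => siegel_congr hF _ _ rfl (e1 s) rfl
  rw [g2] at h ⊢
  by_cases hk : 2 * k + 1 = n
  · refine star_mid hF hn W hU hρ h2 (by omega) ?_ ht ht' ht0 _ _ h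
    rw [herm_smul_left, herm_smul_right, W.gram k (by omega) k (by omega), if_pos (by omega), mul_one]
    exact mul_ne_zero hc (pow_ne_zero q hc)
  · obtain rfl := hμ hk
    obtain rfl := hμ' hk
    exact star_short hF hn hρ ht ht' ht0 _ _ h

end Cfsg.Agent.OddHalf.D4.UnB
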