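import Mathlib
import Cfsg.Agent.OddHalf.D4.UnB.Star

/-!
# ODD, D4, (1B): action of the unitriangular semi-isometries on the levels

`lead_conj`: `toAut M ρ` multiplies leading coefficients by `ρ`. `fix_R`, `fix_U`: if `ρ` is trivial on `F_q`, it acts
trivially on `Rg t / Ug (t + 2)` and on `Ug (t + 1) / Rg t`. `rho_of_fixZ`: `ρ` is trivial on `F_q` if `toAut M ρ`
centralizes `Z(T)`.
-/

set_option autoImplicit false

namespace Cfsg.Agent.OddHalf.D4.UnB

open Cfsg Cfsg.Agent.LieClassical.HermBasic Cfsg.Agent.LieClassical.HermSiegel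
  Cfsg.Agent.LieClassical.HermGen Cfsg.Agent.LieClassical.SUBasic
  Cfsg.Agent.ClassicalGeometry.PSUAutBasic Cfsg.Agent.ClassicalGeometry.PSUAutUnip
  Cfsg.Agent.ClassicalGeometry.PSUAutSylow Cfsg.Agent.ClassicalGeometry.PSUAutExt
  Cfsg.Agent.KFacts.Unit Cfsg.Agent.OddHalf.D4.Free

open Cfsg.Agent.ClassicalGeometry.PSUAutCount (gm semiConj toAut)

variable {F : Type*} [Field F] [Fintype F] {q n : ℕ} {v : ℕ → Fin n → F}

omit [Fintype F] in
theorem sg_injective (M : GU n F q) (ρ : F ≃+* F) : Function.Injective (sg M ρ) := by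
  intro x y h
  have h1 : sg M ρ (x - y) = 0 := by
    have h2 := sg_add M ρ (x - y) y
    rw [sub_add_cancel] at h2
    rw [h] at h2
    exact (left_eq_add.1 (h2.trans (add_comm _ _)))
  exact sub_eq_zero.1 (sg_eq_zero M ρ h1)

omit [Fintype F] in
theorem sg_sub (M : GU n F q) (ρ : F ≃+* F) (x y : Fin n → F) : sg M ρ (x - y) = sg M ρ x - sg M ρ y := by
  have h2 := sg_add M ρ (x - y) y
  rw [sub_add_cancel] at h2
  rw [h2, add_sub_cancel_right]

/-- `V_a ⊥ V_b` for `a + b ≤ n` -/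
theorem Vf_orth (hF : Fintype.card F = q ^ 2) (W : Wb q v) {a b : ℕ} (hab : a + b ≤ n) {x z : Fin n → F}
    (hx : x ∈ Vf q v a) (hz : z ∈ Vf q v b) : hermForm n F q x z = 0 := by
  refine W.induct hF (p := fun z => hermForm n F q x z = 0) (herm_zero_right hF _) ?_ ?_ ?_ hz
  · intro y z hy hz
    rw [herm_add_right hF, hy, hz, add_zero]
  · intro c y hy
    rw [herm_smul_right, hy, mul_zero]
  · intro k hk hkb
    exact hx k (by omega)

theorem Uni.map_mem (hF : Fintype.card F = q ^ 2) (W : Wb q v) {M : GU n F q} {ρ : F ≃+* F}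
    (hU : Uni q v M ρ) {a : ℕ} {x : Fin n → F} (hx : x ∈ Vf q v a) : sg M ρ x ∈ Vf q v a := by
  refine W.induct hF (p := fun x => sg M ρ x ∈ Vf q v a) ?_ ?_ ?_ ?_ hx
  · rw [sg_zero]; exact zero_mem _
  · intro x y hx hy
    rw [sg_add]; exact add_mem hx hy
  · intro c x hx
    rw [sg_smul]; exact Submodule.smul_mem _ _ hx
  · intro k hk hka
    have h1 := add_mem (Vf_mono (v := v) (q := q) hka.le (hU k hk)) (W.mem hka hk)
    rwa [sub_add_cancel] at h1

theorem Uni.exists_mem (hF : Fintype.card F = q ^ 2) (W : Wb q v) {M : GU n F q} {ρ : F ≃+* F}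
    (hU : Uni q v M ρ) {a : ℕ} {y : Fin n → F} (hy : y ∈ Vf q v a) : ∃ x ∈ Vf q v a, sg M ρ x = y := by
  have h2 : Function.Surjective (fun x : ↥(Vf q v a) => (⟨sg M ρ x, hU.map_mem hF W x.2⟩ : ↥(Vf q v a))) := by
    apply Finite.surjective_of_injective
    intro x x' h
    exact Subtype.ext (sg_injective M ρ (congrArg Subtype.val h))
  obtain ⟨x, hx⟩ := h2 ⟨y, hy⟩
  exact ⟨x, x.2, congrArg Subtype.val hx⟩

/-- preimage of `v k` -/
theorem Uni.exists_pre (hF : Fintype.card F = q ^ 2) (W : Wb q v) {M : GU n F q} {ρ : F ≃+* F}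
    (hU : Uni q v M ρ) {k : ℕ} (hk : k < n) : ∃ x ∈ Vf q v (k + 1), x - v k ∈ Vf q v k ∧ sg M ρ x = v k := by
  obtain ⟨x, hx, hxk⟩ := hU.exists_mem hF W (W.mem (Nat.lt_succ_self k) hk)
  refine ⟨x, hx, ?_, hxk⟩
  obtain ⟨z, hz, hz'⟩ := hU.exists_mem hF W (a := k) (y := v k - sg M ρ (v k)) (by
    rw [← neg_sub]; exact neg_mem (hU k hk))
  have h1 : sg M ρ (x - v k) = sg M ρ z := by rw [sg_sub, hxk, hz']
  rw [sg_injective M ρ h1]
  exact hz

/-- the levels are invariant -/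
theorem semiConj_mem_Ug (hF : Fintype.card F = q ^ 2) (W : Wb q v) {M : GU n F q} {ρ : F ≃+* F}
    (hU : Uni q v M ρ) {j : ℕ} {g : SU n F q} (hg : g ∈ Ug q v j) : semiConj M ρ g ∈ Ug q v j := by
  intro a y hy
  obtain ⟨x, hx, rfl⟩ := hU.exists_mem hF W hy
  rw [act_semiConj', ← sg_sub]
  exact hU.map_mem hF W (hg a x hx)

/-- **leading coefficients** -/
theorem lead_conj (hF : Fintype.card F = q ^ 2) (W : Wb q v) {M : GU n F q} {ρ : F ≃+* F}
    (hU : Uni q v M ρ) {t : ℕ} {g : SU n F q} (hg : g ∈ Ug q v (t + 1)) {k i : ℕ} (hk : k < n) (hi : i < n)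
    (hki : k + i = n + t) : hermForm n F q (act (semiConj M ρ g) (v k) - v k) (v i) =
      ρ (hermForm n F q (act g (v k) - v k) (v i)) := by
  obtain ⟨x, hx, hxk, hxv⟩ := hU.exists_pre hF W hk
  obtain ⟨z, hz, hzi, hzv⟩ := hU.exists_pre hF W hi
  have e1 : act (semiConj M ρ g) (v k) - v k = sg M ρ (act g x - x) := by
    rw [← hxv, act_semiConj', sg_sub]
  rw [e1, ← hzv, herm_sg, hzv]
  congr 1
  have h1 : hermForm n F q (act g x - x) (z - v i) = 0 :=
    Vf_orth hF W (a := k + 1 - (t + 1)) (b := i) (by omega) (hg _ _ hx) hzi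
  have h2 : hermForm n F q (act g x - x) z = hermForm n F q (act g x - x) (v i) := by
    have h3 := herm_add_right hF (act g x - x) (z - v i) (v i)
    rw [sub_add_cancel, h1, zero_add] at h3
    exact h3
  have h3 : hermForm n F q (act g (x - v k) - (x - v k)) (v i) = 0 := by
    have h4 := hg _ _ hxk
    exact h4 i (by omega)
  rw [h2]
  have e2 : act g x - x = (act g (x - v k) - (x - v k)) + (act g (v k) - v k) := by rw [act_sub]; abel
  rw [e2, herm_add_left, h3, zero_add]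

/-- membership in the next level -/
theorem mem_Ug_succ (hF : Fintype.card F = q ^ 2) (W : Wb q v) {t : ℕ} {g : SU n F q} (hg : g ∈ Ug q v (t + 1))
    (h : ∀ k < n, ∀ i < n, k + i = n + t → hermForm n F q (act g (v k) - v k) (v i) = 0) : g ∈ Ug q v (t + 2) := by
  refine mem_Ug_of hF W fun k hk i hi => ?_
  by_cases h1 : k + i = n + t
  · exact h k hk i (by omega) h1
  · exact Ug_coeff hg (W.mem (Nat.lt_succ_self k) hk) (by omega) (by omega)

/-- **`fix`, first half** -/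
theorem fix_R (hF : Fintype.card F = q ^ 2) (W : Wb q v) {M : GU n F q} {ρ : F ≃+* F}
    (hU : Uni q v M ρ) (hρ : ∀ x : F, x ^ q = x → ρ x = x) {t : ℕ} {g : SU n F q} (hg : g ∈ Rg hF W t) :
    semiConj M ρ g * g⁻¹ ∈ Ug q v (t + 2) := by
  have h1 := semiConj_mem_Ug hF W hU hg.1
  refine mem_Ug_succ hF W (mul_mem h1 (inv_mem hg.1)) fun k hk i hi hki => ?_
  have hx := W.mem (Nat.lt_succ_self k) hk
  rw [lead_mul h1 (inv_mem hg.1) hx (by omega) hi, lead_inv hg.1 hx (by omega) hi,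
    lead_conj hF W hU hg.1 hk hi hki, hρ _ (hg.2 k hk i hi hki), add_neg_cancel]

/-- **`fix`, second half** -/
theorem fix_U (hF : Fintype.card F = q ^ 2) (W : Wb q v) {M : GU n F q} {ρ : F ≃+* F}
    (hU : Uni q v M ρ) (hρ : ∀ x : F, x ^ q = x → ρ x = x) [CharP F 2] {t : ℕ} {g : SU n F q}
    (hg : g ∈ Ug q v (t + 1)) : semiConj M ρ g * g⁻¹ ∈ Rg hF W t := by
  have h1 := semiConj_mem_Ug hF W hU hg
  refine ⟨mul_mem h1 (inv_mem hg), fun k hk i hi hki => ?_⟩
  have hx := W.mem (Nat.lt_succ_self k) hk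
  rw [lead_mul h1 (inv_mem hg) hx (by omega) hi, lead_inv hg hx (by omega) hi,
    lead_conj hF W hU hg hk hi hki, add_pow_q hF, neg_pow_q hF]
  generalize hermForm n F q (act g (v k) - v k) (v i) = a
  have htwo : ∀ x : F, x + x = 0 := fun x => CharTwo.add_self_eq_zero x
  rcases ringAut_dich hF hρ with h3 | h3
  · rw [h3, add_neg_cancel, add_neg_cancel]
  · rw [h3, pow_q_pow_q hF]
    have h4 := htwo a
    have h5 := htwo (a ^ q)
    linear_combination h4 - h5

/-- the transvections at `v 0` are central in `T` -/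
theorem inZ_transv (hF : Fintype.card F = q ^ 2) (W : Wb q v) (hn : 3 ≤ n) {T : Sylow 2 (PSU n F q)}
    (hT : (T : Subgroup (PSU n F q)) = (Ug q v 1).map (pr n F q)) {μ : F} (hμ : μ + μ ^ q = 0) :
    InZ T (pr n F q (transv hF (v 0) (W.iso (by omega)) μ hμ)) := by
  have hfix : ∀ g ∈ Ug q v 1, act g (v 0) = v 0 := by
    intro g hg
    have h1 := hg 1 (v 0) (W.mem Nat.one_pos (by omega))
    rw [Nat.sub_self] at h1
    exact sub_eq_zero.1 (Vf_zero hF W h1)
  constructor
  · have h1 : pr n F q (transv hF (v 0) (W.iso (by omega)) μ hμ) ∈ (Ug q v 1).map (pr n F q) := by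
      refine ⟨_, ?_, rfl⟩
      refine mem_Ug_of hF W fun k hk i hi => ?_
      rw [act_transv, add_sub_cancel_left, herm_smul_left, W.gram k hk 0 (by omega), W.gram 0 (by omega) i (by omega)]
      by_cases h2 : k + 0 + 1 = n
      · rw [if_neg (by omega : ¬ (0 + i + 1 = n)), mul_zero]
      · rw [if_neg h2, mul_zero, zero_mul]
    rw [← hT] at h1
    exact h1
  · intro s hs
    have hs' : s ∈ (Ug q v 1).map (pr n F q) := by rw [← hT]; exact hs
    obtain ⟨g, hg, rfl⟩ := hs'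
    rw [← map_mul, ← map_mul]
    congr 1
    apply ext_act
    intro x
    have h1 := hfix g hg
    rw [act_mul, act_mul, act_transv, act_transv, act_add, act_smul, h1]
    have h2 : hermForm n F q (act g x) (v 0) = hermForm n F q x (v 0) := by
      conv_lhs => rw [← h1]
      rw [herm_act]
    rw [h2]

/-- `ρ` is trivial on `F_q` -/
theorem rho_of_fixZ [CharP F 2] (hF : Fintype.card F = q ^ 2) (W : Wb q v) (hn : 3 ≤ n) {T : Sylow 2 (PSU n F q)}
    (hT : (T : Subgroup (PSU n F q)) = (Ug q v 1).map (pr n F q)) {M : GU n F q} {ρ : F ≃+* F}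
    (hU : Uni q v M ρ) (h : FixZ T (toAut M ρ)) : ∀ x : F, x ^ q = x → ρ x = x := by
  intro μ hμq
  have hμ : μ + μ ^ q = 0 := by rw [hμq]; exact CharTwo.add_self_eq_zero μ
  have h1 := h _ (inZ_transv hF W hn hT hμ)
  rw [transv, fix_siegel_iff hF hn] at h1
  have h2 := h1 (v (n - 1))
  have h0 : sg M ρ (v 0) = v 0 := sub_eq_zero.1 (Vf_zero hF W (hU 0 (by omega)))
  have hv0 : v 0 ≠ 0 := by
    intro h0
    have h5 := W.gram 0 (by omega) (n - 1) (by omega)
    rw [h0, herm_zero_left, if_pos (by omega)] at h5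
    exact zero_ne_one h5
  rw [sg_zero, h0, herm_zero_right hF, W.gram (n - 1) (by omega) 0 (by omega), if_pos (by omega), smul_zero, zero_add,
    zero_add, sub_zero, sub_zero, mul_one, mul_one] at h2
  have h3 : (ρ μ - μ) • v 0 = 0 := by rw [sub_smul, h2, sub_self]
  exact sub_eq_zero.1 ((smul_eq_zero.1 h3).resolve_right hv0)

end Cfsg.Agent.OddHalf.D4.UnB
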