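import Mathlib
import Cfsg.Agent.OddHalf.D4.UnB.Level

/-!
# ODD, D4, (1B): generation of the level filtration

`W : Wb q v` a Witt basis. Level `t`: the pairs `(i, k)` with `i + k + t + 2 = n`; the leading coefficient
`lc g i k = (g v_(n-1-i) - v_(n-1-i), v_(n-1-k))` of `g ∈ Ug (t + 1)`.

* `lc_swap` : `lc g k i = -(lc g i k)^q`; `lc_siegel`, `lc_transv`;
* `Ln_le_Ug`, `Ln_le_Rg`, `transvG_le_Rg`, `Ln_sq`, `siegel_mem_Ug`, `siegel_mem_Rg`, `transv_mem_Ug`;
* **`gen_R`** : `Rg t` is generated by `Ug (t + 2)`, the lines `Ln i k 1` and the transvection groups of level `t`;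
* **`gen_U`** : `Ug (t + 1)` is generated by `Rg t` and the lines `Ln i k c₀`, `c₀ ∉ F_q`.
-/

set_option autoImplicit false
set_option linter.unusedSectionVars false

namespace Cfsg.Agent.OddHalf.D4.UnB

open Cfsg Cfsg.Agent.LieClassical.HermBasic Cfsg.Agent.LieClassical.HermSiegel
  Cfsg.Agent.LieClassical.HermGen Cfsg.Agent.LieClassical.SUBasic
  Cfsg.Agent.ClassicalGeometry.PSUAutBasic Cfsg.Agent.ClassicalGeometry.PSUAutUnip
  Cfsg.Agent.KFacts.Unit

variable {F : Type*} [Field F] [Fintype F] {q n : ℕ} {v : ℕ → Fin n → F}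

/-- the leading coefficient at `(i, k)` -/
def lc (q : ℕ) (v : ℕ → Fin n → F) (g : SU n F q) (i k : ℕ) : F :=
  hermForm n F q (act g (v (n - 1 - i)) - v (n - 1 - i)) (v (n - 1 - k))

section Lead

variable (hF : Fintype.card F = q ^ 2) (W : Wb q v) {t : ℕ}

include W

theorem lc_mul {g h : SU n F q} (hg : g ∈ Ug q v (t + 1)) (hh : h ∈ Ug q v (t + 1)) {i k : ℕ}
    (hik : i + k + t + 2 = n) : lc q v (g * h) i k = lc q v g i k + lc q v h i k :=
  lead_mul hg hh (W.mem (Nat.lt_succ_self _) (by omega)) (by omega) (by omega)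

include hF

theorem lc_swap {g : SU n F q} (hg : g ∈ Ug q v (t + 1)) {i k : ℕ} (hik : i + k + t + 2 = n) :
    lc q v g k i = -(lc q v g i k) ^ q := by
  have h1 := lead_inv hg (W.mem (Nat.lt_succ_self (n - 1 - i)) (by omega)) (show (n - 1 - k) + (n - 1 - i + 1) ≤ n + t + 1 by omega)
    (show n - 1 - k < n by omega)
  unfold lc
  rw [herm_sub_left, herm_act_left, ← herm_sub_right hF,
    herm_swap hF (act g⁻¹ (v (n - 1 - i)) - v (n - 1 - i)) (v (n - 1 - k)), h1, neg_pow_q hF]

/-- `Rg` in terms of the pairs `i ≤ k` -/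
theorem mem_Rg_of {g : SU n F q} (hg : g ∈ Ug q v (t + 1))
    (h : ∀ i k, i ≤ k → i + k + t + 2 = n → lc q v g i k ^ q = lc q v g i k) : g ∈ Rg hF W t := by
  have h1 : ∀ i k, i + k + t + 2 = n → lc q v g i k ^ q = lc q v g i k := by
    intro i k hik
    rcases le_total i k with h2 | h2
    · exact h i k h2 hik
    · have h3 := h k i h2 (by omega)
      rw [lc_swap hF W hg (show k + i + t + 2 = n by omega), neg_pow_q hF, h3, h3]
  refine ⟨hg, fun k hk i hi hki => ?_⟩
  have h2 := h1 (n - 1 - k) (n - 1 - i) (by omega)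
  unfold lc at h2
  rwa [show n - 1 - (n - 1 - k) = k by omega, show n - 1 - (n - 1 - i) = i by omega] at h2

theorem Rg_le_pow {g : SU n F q} (hg : g ∈ Rg hF W t) {i k : ℕ} (hik : i + k + t + 2 = n) :
    lc q v g i k ^ q = lc q v g i k := hg.2 (n - 1 - i) (by omega) (n - 1 - k) (by omega) (by omega)

/-- the next level -/
theorem mem_Ug_succ_of {g : SU n F q} (hg : g ∈ Ug q v (t + 1))
    (h : ∀ i k, i ≤ k → i + k + t + 2 = n → lc q v g i k = 0) : g ∈ Ug q v (t + 2) := by
  have h1 : ∀ i k, i + k + t + 2 = n → lc q v g i k = 0 := by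
    intro i k hik
    rcases le_total i k with h2 | h2
    · exact h i k h2 hik
    · rw [lc_swap hF W hg (show k + i + t + 2 = n by omega), h k i h2 (by omega), zero_pow_q hF, neg_zero]
  refine mem_Ug_of hF W fun k hk i hi => ?_
  by_cases h2 : i + k = n + t
  · have h3 := h1 (n - 1 - k) (n - 1 - i) (by omega)
    unfold lc at h3
    rwa [show n - 1 - (n - 1 - k) = k by omega, show n - 1 - (n - 1 - i) = i by omega] at h3
  · exact Ug_coeff hg (W.mem (Nat.lt_succ_self k) hk) (by omega) (by omega)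

theorem lc_zero_of_succ {g : SU n F q} (hg : g ∈ Ug q v (t + 2)) {i k : ℕ} (hik : i + k + t + 2 = n) :
    lc q v g i k = 0 :=
  Ug_coeff hg (W.mem (Nat.lt_succ_self _) (by omega)) (by omega) (by omega)

/-! ### Siegel transformations -/

theorem siegel_mem_lev {i k : ℕ} (hik : i ≤ k) (h : i + k + t + 2 = n) {s μ : F}
    (hs : IsSiegel q (v i) (s • v k) μ) : siegel hF (v i) (s • v k) μ hs ∈ Ug q v (t + 1) := by
  refine mem_Ug_of hF W fun a ha => ?_
  have e1 : act (siegel hF (v i) (s • v k) μ hs) (v a) - v a = hermForm n F q (v a) (v i) • (s • v k) +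
      (μ * hermForm n F q (v a) (v i) - hermForm n F q (v a) (s • v k)) • v i := by
    rw [act_siegel]; abel
  rw [e1, herm_smul_right, W.gram a ha i (by omega), W.gram a ha k (by omega)]
  refine add_mem ?_ ?_
  · by_cases h1 : a + i + 1 = n
    · exact Submodule.smul_mem _ _ (Submodule.smul_mem _ _ (W.mem (by omega) (by omega)))
    · rw [if_neg h1, zero_smul]
      exact zero_mem _
  · by_cases h1 : a + i + 1 = n
    · exact Submodule.smul_mem _ _ (W.mem (by omega) (by omega))
    · by_cases h2 : a + k + 1 = n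
      · exact Submodule.smul_mem _ _ (W.mem (by omega) (by omega))
      · rw [if_neg h1, if_neg h2, mul_zero, mul_zero, sub_zero, zero_smul]
        exact zero_mem _

/-- leading coefficients of Siegel transformations -/
theorem lc_siegel {i k : ℕ} (hik : i < k) (h : i + k + t + 2 = n) {s μ : F} (hs : IsSiegel q (v i) (s • v k) μ)
    {a b : ℕ} (hab : a + b + t + 2 = n) : lc q v (siegel hF (v i) (s • v k) μ hs) a b =
      (if a = i then s else 0) - (if a = k then s ^ q else 0) := by
  have e1 : act (siegel hF (v i) (s • v k) μ hs) (v (n - 1 - a)) - v (n - 1 - a) =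
      hermForm n F q (v (n - 1 - a)) (v i) • (s • v k) +
      (μ * hermForm n F q (v (n - 1 - a)) (v i) - hermForm n F q (v (n - 1 - a)) (s • v k)) • v i := by
    rw [act_siegel]; abel
  unfold lc
  rw [e1, herm_add_left, herm_smul_left, herm_smul_left, herm_smul_left, herm_smul_right,
    W.gram _ (by omega) i (by omega), W.gram _ (by omega) k (by omega), W.gram k (by omega) _ (by omega),
    W.gram i (by omega) _ (by omega)]
  by_cases h1 : a = i
  · rw [if_pos (by omega), if_neg (by omega : ¬ (n - 1 - a) + k + 1 = n), if_pos (by omega : k + (n - 1 - b) + 1 = n),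
      if_neg (by omega : ¬ i + (n - 1 - b) + 1 = n), if_pos h1, if_neg (by omega : ¬ a = k)]
    ring
  · by_cases h2 : a = k
    · rw [if_neg (by omega : ¬ (n - 1 - a) + i + 1 = n), if_pos (by omega : (n - 1 - a) + k + 1 = n),
        if_pos (by omega : i + (n - 1 - b) + 1 = n), if_neg h1, if_pos h2]
      ring
    · rw [if_neg (by omega : ¬ (n - 1 - a) + i + 1 = n), if_neg (by omega : ¬ (n - 1 - a) + k + 1 = n),
        if_neg h1, if_neg h2]
      ring

theorem lc_transv {i : ℕ} (hi : 2 * i + 1 < n) (h : 2 * i + t + 2 = n) {μ : F} (hμ : μ + μ ^ q = 0)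
    {a b : ℕ} (hab : a + b + t + 2 = n) : lc q v (transv hF (v i) (W.iso hi) μ hμ) a b =
      (if a = i then μ else 0) := by
  have e1 : act (transv hF (v i) (W.iso hi) μ hμ) (v (n - 1 - a)) - v (n - 1 - a) =
      (μ * hermForm n F q (v (n - 1 - a)) (v i)) • v i := by
    rw [act_transv]; abel
  unfold lc
  rw [e1, herm_smul_left, W.gram _ (by omega) i (by omega), W.gram i (by omega) _ (by omega)]
  by_cases h1 : a = i
  · rw [if_pos (by omega), if_pos (by omega : i + (n - 1 - b) + 1 = n), if_pos h1]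
    ring
  · rw [if_neg (by omega : ¬ (n - 1 - a) + i + 1 = n), if_neg h1]
    ring

theorem transv_mem_lev {i : ℕ} (hi : 2 * i + 1 < n) (h : 2 * i + t + 2 ≤ n) {μ : F} (hμ : μ + μ ^ q = 0) :
    transv hF (v i) (W.iso hi) μ hμ ∈ Ug q v (t + 1) := by
  refine mem_Ug_of hF W fun a ha => ?_
  have e1 : act (transv hF (v i) (W.iso hi) μ hμ) (v a) - v a = (μ * hermForm n F q (v a) (v i)) • v i := by
    rw [act_transv]; abel
  rw [e1, W.gram a ha i (by omega)]
  by_cases h1 : a + i + 1 = n
  · exact Submodule.smul_mem _ _ (W.mem (by omega) (by omega))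
  · rw [if_neg h1, mul_zero, zero_smul]
    exact zero_mem _

omit W in
theorem exists_mu (c : F) : ∃ μ : F, μ + μ ^ q + c * c ^ q = 0 := by
  obtain ⟨x, hx⟩ := exists_trace_eq hF (c := -(c * c ^ q)) (by rw [neg_pow_q hF, norm_pow_q hF])
  exact ⟨x, by rw [hx]; ring⟩

/-- an element of the line -/
theorem exists_Ln {i k : ℕ} (hik : i < k ∧ i + k + 1 < n) (c : F) {s : F} (hs : s ^ q = s) :
    ∃ (μ : F) (h : IsSiegel q (v i) ((s * c) • v k) μ), siegel hF (v i) ((s * c) • v k) μ h ∈ Ln hF W hik c := by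
  by_cases hk : 2 * k + 1 = n
  · obtain ⟨μ, hμ⟩ := exists_mu hF (s * c)
    have h1 := isSiegel_line hF W hik (c := s * c) (μ := μ) (by rw [if_pos hk]; exact hμ)
    exact ⟨μ, h1, s, μ, h1, hs, fun h => absurd hk h, rfl⟩
  · have h1 := isSiegel_line hF W hik (c := s * c) (μ := 0) (by rw [if_neg hk, zero_pow_q hF]; ring)
    exact ⟨0, h1, s, 0, h1, hs, fun _ => rfl, rfl⟩

/-! ### The statements on lines -/

theorem Ln_le_Ug {i k : ℕ} (hik : i < k ∧ i + k + 1 < n) (h : i + k + t + 2 = n) (c : F) :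
    Ln hF W hik c ≤ Ug q v (t + 1) := by
  rintro _ ⟨s, μ, hs, -, -, rfl⟩
  exact siegel_mem_lev hF W hik.1.le h hs

theorem siegel_mem_Ug {i k : ℕ} (hik : i < k ∧ i + k + 1 < n) (h : i + k + t + 2 = n) {s μ : F}
    (hs : IsSiegel q (v i) (s • v k) μ) (hμ : 2 * k + 1 ≠ n → μ = 0) :
    siegel hF (v i) (s • v k) μ hs ∈ Ug q v (t + 2) ↔ s = 0 := by
  constructor
  · intro h1
    have h2 := lc_zero_of_succ hF W h1 h
    rwa [lc_siegel hF W hik.1 h hs h, if_pos rfl, if_neg (by omega), sub_zero] at h2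
  · rintro rfl
    have hi : 2 * i + 1 < n := by omega
    by_cases hk : 2 * k + 1 = n
    · have h0 := hs.tr
      rw [zero_smul, herm_zero_left, add_zero] at h0
      have e1 : siegel hF (v i) ((0 : F) • v k) μ hs = transv hF (v i) (W.iso hi) μ h0 :=
        siegel_congr hF _ _ rfl (zero_smul _ _) rfl
      rw [e1]
      exact transv_mem_lev hF W hi (t := t + 1) (by omega) h0
    · have h0 : μ = 0 := hμ hk
      subst h0
      have e1 : siegel hF (v i) ((0 : F) • v k) 0 hs = 1 := by
        rw [siegel_congr hF _ (IsSiegel.zero hF (W.iso hi)) rfl (zero_smul _ _) rfl, siegel_zero]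
      rw [e1]
      exact one_mem _

theorem siegel_mem_Rg {i k : ℕ} (hik : i < k ∧ i + k + 1 < n) (h : i + k + t + 2 = n) {s μ : F}
    (hs : IsSiegel q (v i) (s • v k) μ) :
    siegel hF (v i) (s • v k) μ hs ∈ Rg hF W t ↔ s ^ q = s := by
  constructor
  · intro h1
    have h2 := Rg_le_pow hF W h1 h
    rwa [lc_siegel hF W hik.1 h hs h, if_pos rfl, if_neg (by omega), sub_zero] at h2
  · intro h1
    refine mem_Rg_of hF W (siegel_mem_lev hF W hik.1.le h hs) fun a b _ hab' => ?_
    rw [lc_siegel hF W hik.1 h hs hab']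
    by_cases h2 : a = i
    · rw [if_pos h2, if_neg (by omega), sub_zero, h1]
    · by_cases h3 : a = k
      · rw [if_neg h2, if_pos h3, zero_sub, neg_pow_q hF, h1, h1]
      · rw [if_neg h2, if_neg h3, sub_zero, zero_pow_q hF]

theorem Ln_le_Rg {i k : ℕ} (hik : i < k ∧ i + k + 1 < n) (h : i + k + t + 2 = n) {c : F} (hc : c ^ q = c) :
    Ln hF W hik c ≤ Rg hF W t := by
  rintro _ ⟨s, μ, hs, hs', -, rfl⟩
  exact (siegel_mem_Rg hF W hik h hs).2 (by rw [mul_pow, hs', hc])

theorem transv_mem_Ug {i : ℕ} (hi : 2 * i + 1 < n) (h : 2 * i + t + 2 = n) {μ : F} (hμ : μ + μ ^ q = 0) :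
    transv hF (v i) (W.iso hi) μ hμ ∈ Ug q v (t + 2) ↔ μ = 0 := by
  constructor
  · intro h1
    have h2 := lc_zero_of_succ hF W h1 (show i + i + t + 2 = n by omega)
    rwa [lc_transv hF W hi h hμ (by omega), if_pos rfl] at h2
  · rintro rfl
    rw [transv_zero]
    exact one_mem _

section Two

variable [CharP F 2]

theorem Ln_sq {i k : ℕ} (hik : i < k ∧ i + k + 1 < n) (h : i + k + t + 2 = n) {c : F} {x : SU n F q}
    (hx : x ∈ Ln hF W hik c) : x * x ∈ Ug q v (t + 2) :=
  Ug_anti (by omega) (Ug_sq (Ln_le_Ug hF W hik h c hx))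

theorem transvG_le_Rg {i : ℕ} (hi : 2 * i + 1 < n) (h : 2 * i + t + 2 = n) :
    transvG hF (v i) (W.iso hi) ≤ Rg hF W t := by
  rintro _ ⟨μ, hμ, rfl⟩
  refine mem_Rg_of hF W (transv_mem_lev hF W hi h.le hμ) fun a b _ hab => ?_
  rw [lc_transv hF W hi h hμ hab]
  by_cases h2 : a = i
  · rw [if_pos h2]
    have h3 : μ ^ q + μ = μ + μ := by rw [add_comm, hμ, CharTwo.add_self_eq_zero]
    exact add_right_cancel h3
  · rw [if_neg h2, zero_pow_q hF]

/-- **Generation, real part.** -/
theorem gen_R {g : SU n F q} (hg : g ∈ Rg hF W t) : g ∈ Subgroup.closure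
    ({x | ∃ (i k : ℕ) (hik : i < k ∧ i + k + 1 < n), i + k + t + 2 = n ∧ x ∈ Ln hF W hik 1} ∪
      {x | ∃ (i : ℕ) (hi : 2 * i + 1 < n), 2 * i + t + 2 = n ∧ x ∈ transvG hF (v i) (W.iso hi)} ∪
      (Ug q v (t + 2) : Set (SU n F q))) := by
  set C := Subgroup.closure
    ({x | ∃ (i k : ℕ) (hik : i < k ∧ i + k + 1 < n), i + k + t + 2 = n ∧ x ∈ Ln hF W hik 1} ∪
      {x | ∃ (i : ℕ) (hi : 2 * i + 1 < n), 2 * i + t + 2 = n ∧ x ∈ transvG hF (v i) (W.iso hi)} ∪
      (Ug q v (t + 2) : Set (SU n F q))) with hC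
  have key : ∀ m : ℕ, ∀ g ∈ Rg hF W t, (∀ i k, i ≤ k → i + k + t + 2 = n → m ≤ i → lc q v g i k = 0) → g ∈ C := by
    intro m
    induction m with
    | zero =>
      intro g hg h
      exact Subgroup.subset_closure (Or.inr (mem_Ug_succ_of hF W hg.1 fun i k hik hn => h i k hik hn (Nat.zero_le i)))
    | succ m ih =>
      intro g hg h
      -- an element `x` of `C ∩ Rg t` with the right leading coefficients
      have hx : ∀ x ∈ C, x ∈ Rg hF W t → (∀ i k, i ≤ k → i + k + t + 2 = n → m ≤ i → lc q v (g * x) i k = 0) →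
          g ∈ C := by
        intro x hxC hxR h1
        have h2 := mul_mem (ih (g * x) (mul_mem hg hxR) h1) (inv_mem hxC)
        rwa [mul_inv_cancel_right] at h2
      by_cases hm : 2 * m + t + 2 ≤ n
      · obtain ⟨k, hk⟩ : ∃ k, m + k + t + 2 = n := ⟨n - m - t - 2, by omega⟩
        rcases Nat.lt_or_ge m k with hmk | hmk
        · -- a line
          have hik : m < k ∧ m + k + 1 < n := ⟨hmk, by omega⟩
          have ha := Rg_le_pow hF W hg hk
          obtain ⟨μ, hs, hsL⟩ := exists_Ln hF W hik (1 : F) (s := -lc q v g m k) (by rw [neg_pow_q hF, ha])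
          refine hx _ (Subgroup.subset_closure (Or.inl (Or.inl ⟨m, k, hik, hk, hsL⟩)))
            (Ln_le_Rg hF W hik hk (one_pow q) hsL) fun i l hil hn hmi => ?_
          rw [lc_mul W hg.1 (Ln_le_Ug hF W hik hk 1 hsL) hn, lc_siegel hF W hmk hk hs hn]
          rcases hmi.lt_or_eq with h1 | h1
          · rw [h i l hil hn h1, if_neg (by omega), if_neg (by omega)]
            ring
          · have h2 : l = k := by omega
            subst h1 h2
            rw [if_pos rfl, if_neg (by omega)]
            ring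
        · -- a transvection
          have hkm : k = m := by omega
          subst hkm
          have hi : 2 * k + 1 < n := by omega
          have hsw := lc_swap hF W hg.1 hk
          have hμ : -lc q v g k k + (-lc q v g k k) ^ q = 0 := by
            rw [neg_pow_q hF]
            have h3 := hsw
            linear_combination -h3
          have hT : transv hF (v k) (W.iso hi) (-lc q v g k k) hμ ∈ transvG hF (v k) (W.iso hi) := ⟨_, hμ, rfl⟩
          have h2k : 2 * k + t + 2 = n := by omega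
          refine hx _ (Subgroup.subset_closure (Or.inl (Or.inr ⟨k, hi, h2k, hT⟩)))
            (transvG_le_Rg hF W hi h2k hT) fun i l hil hn hmi => ?_
          rw [lc_mul W hg.1 (transvG_le_Rg hF W hi h2k hT).1 hn, lc_transv hF W hi h2k hμ hn]
          rcases hmi.lt_or_eq with h1 | h1
          · rw [h i l hil hn h1, if_neg (by omega), add_zero]
          · have h2 : l = k := by omega
            subst h1
            rw [h2, if_pos rfl]
            ring
      · -- no pair
        refine ih g hg fun i k hik hn hmi => ?_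
        rcases hmi.lt_or_eq with h1 | h1
        · exact h i k hik hn h1
        · omega
  exact key n g hg fun i k _ hn hni => by omega

/-- **Generation, complement.** -/
theorem gen_U {c₀ : F} (hc₀ : c₀ ^ q ≠ c₀) {g : SU n F q} (hg : g ∈ Ug q v (t + 1)) : g ∈ Subgroup.closure
    ({x | ∃ (i k : ℕ) (hik : i < k ∧ i + k + 1 < n), i + k + t + 2 = n ∧ x ∈ Ln hF W hik c₀} ∪
      (Rg hF W t : Set (SU n F q))) := by
  set C := Subgroup.closure
    ({x | ∃ (i k : ℕ) (hik : i < k ∧ i + k + 1 < n), i + k + t + 2 = n ∧ x ∈ Ln hF W hik c₀} ∪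
      (Rg hF W t : Set (SU n F q))) with hC
  have key : ∀ m : ℕ, ∀ g ∈ Ug q v (t + 1),
      (∀ i k, i < k → i + k + t + 2 = n → m ≤ i → lc q v g i k ^ q = lc q v g i k) → g ∈ C := by
    intro m
    induction m with
    | zero =>
      intro g hg h
      refine Subgroup.subset_closure (Or.inr (mem_Rg_of hF W hg fun i k hik hn => ?_))
      rcases hik.lt_or_eq with h1 | rfl
      · exact h i k h1 hn (Nat.zero_le i)
      · have h2 := lc_swap hF W hg hn
        have h3 : lc q v g i i ^ q + lc q v g i i = lc q v g i i + lc q v g i i := by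
          rw [CharTwo.add_self_eq_zero]
          linear_combination h2
        exact add_right_cancel h3
    | succ m ih =>
      intro g hg h
      by_cases hm : 2 * m + t + 3 ≤ n
      · obtain ⟨k, hk⟩ : ∃ k, m + k + t + 2 = n := ⟨n - m - t - 2, by omega⟩
        have hmk : m < k := by omega
        have hik : m < k ∧ m + k + 1 < n := ⟨hmk, by omega⟩
        have hcc : c₀ ^ q - c₀ ≠ 0 := sub_ne_zero.2 hc₀
        obtain ⟨a, ha⟩ : ∃ a, a = lc q v g m k := ⟨_, rfl⟩
        obtain ⟨s, hs⟩ : ∃ s, s = -((a ^ q - a) / (c₀ ^ q - c₀)) := ⟨_, rfl⟩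
        have hsc : s * (c₀ ^ q - c₀) = -(a ^ q - a) := by
          rw [hs, neg_mul, div_mul_cancel₀ _ hcc]
        have hsq : s ^ q = s := by
          have h1 : (a ^ q - a) ^ q = -(a ^ q - a) := by rw [sub_pow_q hF, pow_q_pow_q hF]; ring
          have h2 : (c₀ ^ q - c₀) ^ q = -(c₀ ^ q - c₀) := by rw [sub_pow_q hF, pow_q_pow_q hF]; ring
          rw [hs, neg_pow_q hF, div_pow, h1, h2, neg_div_neg_eq]
        obtain ⟨μ, hs', hsL⟩ := exists_Ln hF W hik c₀ hsq
        have h1 : g * siegel hF (v m) ((s * c₀) • v k) μ hs' ∈ C := by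
          refine ih _ (mul_mem hg (Ln_le_Ug hF W hik hk c₀ hsL)) fun i l hil hn hmi => ?_
          rw [lc_mul W hg (Ln_le_Ug hF W hik hk c₀ hsL) hn, lc_siegel hF W hmk hk hs' hn]
          rcases hmi.lt_or_eq with h1 | h1
          · rw [if_neg (by omega), if_neg (by omega), sub_zero, add_zero]
            exact h i l hil hn h1
          · have h2 : l = k := by omega
            subst h1 h2
            rw [if_pos rfl, if_neg (by omega), sub_zero, ← ha, add_pow_q hF, mul_pow, hsq]
            linear_combination hsc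
        have h2 := mul_mem h1 (inv_mem (Subgroup.subset_closure (Or.inl ⟨m, k, hik, hk, hsL⟩) :
          siegel hF (v m) ((s * c₀) • v k) μ hs' ∈ C))
        rwa [mul_inv_cancel_right] at h2
      · refine ih g hg fun i k hik hn hmi => ?_
        rcases hmi.lt_or_eq with h1 | h1
        · exact h i k hik hn h1
        · omega
  exact key n g hg fun i k _ hn hni => by omega

end Two

end Lead

end Cfsg.Agent.OddHalf.D4.UnB
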