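import Mathlib
import Cfsg.Agent.OddHalf.D4.UnB.Fix
import Cfsg.Agent.OddHalf.D4.UnB.Gen

/-!
# ODD, D4, (1B): the K-fact (k3) for `PSU n F q`, `q ≥ 4` even

`filt`: the filtration `Ug 1 ≥ Rg 0 ≥ Ug 2 ≥ Rg 1 ≥ …` with the lines `Ln c₀`, `Ln 1` and the transvection groups.
-/

set_option autoImplicit false

namespace Cfsg.Agent.OddHalf.D4.UnB

open Cfsg Cfsg.Agent.LieClassical.HermBasic Cfsg.Agent.LieClassical.HermSiegel
  Cfsg.Agent.LieClassical.HermGen Cfsg.Agent.LieClassical.SUBasic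
  Cfsg.Agent.ClassicalGeometry.PSUAutBasic Cfsg.Agent.ClassicalGeometry.PSUAutUnip
  Cfsg.Agent.ClassicalGeometry.PSUAutSylow Cfsg.Agent.ClassicalGeometry.PSUAutExt
  Cfsg.Agent.KFacts.Unit Cfsg.Agent.OddHalf.D4.Free

open Cfsg.Agent.ClassicalGeometry.PSUAutCount (gm semiConj toAut)

variable {F : Type*} [Field F] [Fintype F] {q n : ℕ} {v : ℕ → Fin n → F}

/-- an element of `F_q` different from `0`, `1` -/
theorem exists_t (hF : Fintype.card F = q ^ 2) (hq : 3 ≤ q) : ∃ t : F, t ^ q = t ∧ t ≠ 0 ∧ t ≠ 1 := by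
  classical
  obtain ⟨g, hg⟩ := IsCyclic.exists_generator (α := Fˣ)
  have ho : orderOf g = q ^ 2 - 1 := by
    rw [orderOf_eq_card_of_forall_mem_zpowers hg, Nat.card_eq_fintype_card, Fintype.card_units, hF]
  have h1 : (q + 1) * (q - 1) = q ^ 2 - 1 := by
    obtain ⟨r, rfl⟩ : ∃ r, q = r + 1 := ⟨q - 1, by omega⟩
    rw [Nat.add_sub_cancel, Nat.pow_two]
    have : (r + 1) * (r + 1) = (r + 1 + 1) * r + 1 := by ring
    omega
  have h2 : (g ^ (q + 1)) ^ (q - 1) = 1 := by rw [← pow_mul, h1, ← ho, pow_orderOf_eq_one]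
  refine ⟨((g ^ (q + 1) : Fˣ) : F), ?_, Units.ne_zero _, ?_⟩
  · rw [← Units.val_pow_eq_pow_val]
    congr 1
    have h3 : q = q - 1 + 1 := by omega
    conv_lhs => rw [h3]
    rw [pow_succ]
    rw [show q - 1 + 1 = q by omega, h2, one_mul]
  · intro h3
    have h4 : g ^ (q + 1) = 1 := Units.ext h3
    have h5 := orderOf_dvd_of_pow_eq_one h4
    rw [ho, ← h1] at h5
    have h6 := Nat.le_of_dvd (by omega) h5
    have h7 : (q + 1) * 2 ≤ (q + 1) * (q - 1) := Nat.mul_le_mul_left _ (by omega)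
    omega

/-- an element outside `F_q` -/
theorem exists_c [CharP F 2] (hF : Fintype.card F = q ^ 2) : ∃ c : F, c ^ q ≠ c := by
  obtain ⟨x, hx⟩ := exists_trace_ne hF
  refine ⟨x, fun h => hx ?_⟩
  rw [h]
  exact CharTwo.add_self_eq_zero x

/-- `pr` on subgroups of `Ug 1` -/
theorem pr_mem_iff [CharP F 2] (hF : Fintype.card F = q ^ 2) (hn : 3 ≤ n) (W : Wb q v) {H : Subgroup (SU n F q)}
    (hH : H ≤ Ug q v 1) {g : SU n F q} (hg : g ∈ Ug q v 1) : pr n F q g ∈ H.map (pr n F q) ↔ g ∈ H := by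
  have : Fact (Nat.Prime 2) := ⟨Nat.prime_two⟩
  constructor
  · rintro ⟨h, hh, hgh⟩
    obtain ⟨k, hk⟩ := isPGroup_Ug hF W ⟨h, hH hh⟩
    obtain ⟨l, hl⟩ := isPGroup_Ug hF W ⟨g, hg⟩
    have hk' : h ^ 2 ^ k = 1 := congrArg Subtype.val hk
    have hl' : g ^ 2 ^ l = 1 := congrArg Subtype.val hl
    rw [← eq_of_pr_eq hF hn hk' hl' hgh]
    exact hh
  · exact fun h => ⟨g, h, rfl⟩

/-- existence of elements of a line -/
theorem exists_isSiegel [CharP F 2] (hF : Fintype.card F = q ^ 2) (W : Wb q v) {i k : ℕ}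
    (hik : i < k ∧ i + k + 1 < n) (c : F) :
    ∃ μ, IsSiegel q (v i) (c • v k) μ ∧ (2 * k + 1 ≠ n → μ = 0) := by
  by_cases hk : 2 * k + 1 = n
  · obtain ⟨μ, hμ⟩ := exists_trace_eq hF (c := -(c * c ^ q)) (by rw [neg_pow_q hF, norm_pow_q hF])
    exact ⟨μ, isSiegel_line hF W hik (by rw [if_pos hk, hμ]; ring), fun h => absurd hk h⟩
  · exact ⟨0, isSiegel_line hF W hik (by rw [if_neg hk, zero_pow_q hF]; ring), fun _ => rfl⟩

/-- the leading coefficient of a line element -/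
theorem lead_siegel (hF : Fintype.card F = q ^ 2) (W : Wb q v) {i k : ℕ} (hik : i < k ∧ i + k + 1 < n) {s μ : F}
    (hs : IsSiegel q (v i) (s • v k) μ) :
    hermForm n F q (act (siegel hF (v i) (s • v k) μ hs) (v (n - 1 - i)) - v (n - 1 - i)) (v (n - 1 - k)) = s := by
  rw [act_siegel, add_assoc, add_sub_cancel_left, herm_add_left, herm_smul_left, herm_smul_left, herm_smul_left,
    W.gram (n - 1 - i) (by omega) i (by omega), W.gram k (by omega) (n - 1 - k) (by omega),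
    W.gram i (by omega) (n - 1 - k) (by omega), if_pos (by omega), if_pos (by omega), if_neg (by omega)]
  ring

/-- pairs in a line -/
theorem pair_Ln [CharP F 2] (hF : Fintype.card F = q ^ 2) (hq : 3 ≤ q) (W : Wb q v) {i k t : ℕ}
    (hik : i < k ∧ i + k + 1 < n) (h : i + k + t + 2 = n) {c : F} {D : Subgroup (SU n F q)}
    (hD : ∀ g ∈ D, g ∈ Ug q v (t + 1) → ∀ s : F, s ^ q = s →
      hermForm n F q (act g (v (n - 1 - i)) - v (n - 1 - i)) (v (n - 1 - k)) = s * c → s = 0) :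
    ∃ a ∈ Ln hF W hik c, ∃ b ∈ Ln hF W hik c, a ∉ D ∧ b ∉ D ∧ a⁻¹ * b ∉ D := by
  obtain ⟨t₀, ht₀, h0, h1⟩ := exists_t (F := F) hF hq
  obtain ⟨μ, hs, hμ⟩ := exists_isSiegel hF W hik ((1 : F) * c)
  obtain ⟨ν, hs', hν⟩ := exists_isSiegel hF W hik (t₀ * c)
  have ha : siegel hF (v i) (((1 : F) * c) • v k) μ hs ∈ Ln hF W hik c := ⟨1, μ, hs, one_pow _, hμ, rfl⟩
  have hb : siegel hF (v i) ((t₀ * c) • v k) ν hs' ∈ Ln hF W hik c := ⟨t₀, ν, hs', ht₀, hν, rfl⟩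
  have haU := Ln_le_Ug hF W hik h c ha
  have hbU := Ln_le_Ug hF W hik h c hb
  have hx := W.mem (Nat.lt_succ_self (n - 1 - i)) (by omega)
  refine ⟨_, ha, _, hb, ?_, ?_, ?_⟩
  · intro h2
    exact one_ne_zero (hD _ h2 haU 1 (one_pow _) (lead_siegel hF W hik hs))
  · intro h2
    exact h0 (hD _ h2 hbU t₀ ht₀ (lead_siegel hF W hik hs'))
  · intro h2
    have h3 := hD _ h2 (mul_mem (inv_mem haU) hbU) (t₀ - 1) (by rw [sub_pow_q hF, ht₀, one_pow]) (by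
      rw [lead_mul (inv_mem haU) hbU hx (by omega) (by omega), lead_inv haU hx (by omega) (by omega),
        lead_siegel hF W hik hs, lead_siegel hF W hik hs']
      ring)
    exact h1 (sub_eq_zero.1 h3)

/-- the filtration -/
def V0 (hF : Fintype.card F = q ^ 2) (W : Wb q v) (j : ℕ) : Subgroup (SU n F q) :=
  if j % 2 = 0 then Ug q v (j / 2 + 1) else Rg hF W (j / 2)

/-- the lines -/
def L0 (hF : Fintype.card F = q ^ 2) (W : Wb q v) (c₀ : F) (j : ℕ) : Set (Subgroup (SU n F q)) :=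
  {l | (j % 2 = 0 ∧ ∃ (i k : ℕ) (hik : i < k ∧ i + k + 1 < n), i + k + j / 2 + 2 = n ∧ l = Ln hF W hik c₀) ∨
    (j % 2 = 1 ∧ ∃ (i k : ℕ) (hik : i < k ∧ i + k + 1 < n), i + k + j / 2 + 2 = n ∧ l = Ln hF W hik 1) ∨
    (j % 2 = 1 ∧ ∃ (i : ℕ) (hi : 2 * i + 1 < n), 2 * i + j / 2 + 2 = n ∧ l = transvG hF (v i) (W.iso hi))}

theorem V0_even {hF : Fintype.card F = q ^ 2} {W : Wb q v} {j : ℕ} (h : j % 2 = 0) :
    V0 hF W j = Ug q v (j / 2 + 1) := if_pos h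

theorem V0_odd {hF : Fintype.card F = q ^ 2} {W : Wb q v} {j : ℕ} (h : j % 2 = 1) :
    V0 hF W j = Rg hF W (j / 2) := if_neg (by omega)

theorem V0_even_succ {hF : Fintype.card F = q ^ 2} {W : Wb q v} {j : ℕ} (h : j % 2 = 0) :
    V0 hF W (j + 1) = Rg hF W (j / 2) := by
  rw [V0_odd (by omega), show (j + 1) / 2 = j / 2 by omega]

theorem V0_odd_succ {hF : Fintype.card F = q ^ 2} {W : Wb q v} {j : ℕ} (h : j % 2 = 1) :
    V0 hF W (j + 1) = Ug q v (j / 2 + 2) := by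
  rw [V0_even (by omega), show (j + 1) / 2 + 1 = j / 2 + 2 by omega]

theorem V0_le (hF : Fintype.card F = q ^ 2) (W : Wb q v) (j : ℕ) : V0 hF W j ≤ Ug q v 1 := by
  rcases Nat.mod_two_eq_zero_or_one j with h | h
  · rw [V0_even h]
    exact Ug_anti (by omega)
  · rw [V0_odd h]
    exact Rg_le.trans (Ug_anti (by omega))

theorem V0_anti (hF : Fintype.card F = q ^ 2) (W : Wb q v) (j : ℕ) : V0 hF W (j + 1) ≤ V0 hF W j := by
  rcases Nat.mod_two_eq_zero_or_one j with h | h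
  · rw [V0_even_succ h, V0_even h]
    exact Rg_le
  · rw [V0_odd_succ h, V0_odd h]
    exact Ug_le_Rg

theorem L0_le [CharP F 2] (hF : Fintype.card F = q ^ 2) (W : Wb q v) (c₀ : F) {j : ℕ} {l : Subgroup (SU n F q)}
    (hl : l ∈ L0 hF W c₀ j) : l ≤ V0 hF W j := by
  rcases hl with ⟨h, i, k, hik, h1, rfl⟩ | ⟨h, i, k, hik, h1, rfl⟩ | ⟨h, i, hi, h1, rfl⟩
  · rw [V0_even h]
    exact Ln_le_Ug hF W hik h1 c₀
  · rw [V0_odd h]
    exact Ln_le_Rg hF W hik h1 (one_pow q)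
  · rw [V0_odd h]
    exact transvG_le_Rg hF W hi h1

theorem gen0 [CharP F 2] (hF : Fintype.card F = q ^ 2) (W : Wb q v) {c₀ : F} (hc₀ : c₀ ^ q ≠ c₀) {j : ℕ}
    {u : SU n F q} (hu : u ∈ V0 hF W j) :
    u ∈ Subgroup.closure ({x | ∃ l ∈ L0 hF W c₀ j, x ∈ l} ∪ (V0 hF W (j + 1) : Set (SU n F q))) := by
  rcases Nat.mod_two_eq_zero_or_one j with h | h
  · rw [V0_even h] at hu
    rw [V0_even_succ h]
    refine Subgroup.closure_mono ?_ (gen_U hF W hc₀ hu)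
    rintro x (⟨i, k, hik, h1, hx⟩ | hx)
    · exact Or.inl ⟨_, Or.inl ⟨h, i, k, hik, h1, rfl⟩, hx⟩
    · exact Or.inr hx
  · rw [V0_odd h] at hu
    rw [V0_odd_succ h]
    refine Subgroup.closure_mono ?_ (gen_R hF W hu)
    rintro x ((⟨i, k, hik, h1, hx⟩ | ⟨i, hi, h1, hx⟩) | hx)
    · exact Or.inl ⟨_, Or.inr (Or.inl ⟨h, i, k, hik, h1, rfl⟩), hx⟩
    · exact Or.inl ⟨_, Or.inr (Or.inr ⟨h, i, hi, h1, rfl⟩), hx⟩
    · exact Or.inr hx

theorem sq0 [CharP F 2] (hF : Fintype.card F = q ^ 2) (W : Wb q v) {c₀ : F} {j : ℕ} {l : Subgroup (SU n F q)}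
    (hl : l ∈ L0 hF W c₀ j) {x : SU n F q} (hx : x ∈ l) : x * x ∈ V0 hF W (j + 1) := by
  have h1 := L0_le hF W c₀ hl hx
  rcases Nat.mod_two_eq_zero_or_one j with h | h
  · rw [V0_even h] at h1
    rw [V0_even_succ h]
    exact Ug_le_Rg (Ug_anti (by omega) (Ug_sq h1))
  · rw [V0_odd h] at h1
    rw [V0_odd_succ h]
    exact Ug_anti (by omega) (Ug_sq (Rg_le h1))

omit [Fintype F] in
theorem one_tr' [CharP F 2] : (1 : F) + 1 ^ q = 0 := by
  rw [one_pow]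
  exact CharTwo.add_self_eq_zero 1

theorem lead_transv (hF : Fintype.card F = q ^ 2) (W : Wb q v) {i : ℕ} (hi : 2 * i + 1 < n) {μ : F}
    (hμ : μ + μ ^ q = 0) : hermForm n F q (act (transv hF (v i) (W.iso hi) μ hμ) (v (n - 1 - i)) - v (n - 1 - i))
      (v (n - 1 - i)) = μ := by
  rw [act_transv, add_sub_cancel_left, herm_smul_left, W.gram (n - 1 - i) (by omega) i (by omega),
    W.gram i (by omega) (n - 1 - i) (by omega), if_pos (by omega), if_pos (by omega), mul_one, mul_one]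

theorem pair0 [CharP F 2] (hF : Fintype.card F = q ^ 2) (hq : 3 ≤ q) (W : Wb q v) {c₀ : F} (hc₀ : c₀ ^ q ≠ c₀) {j : ℕ}
    {l : Subgroup (SU n F q)} (hl : l ∈ L0 hF W c₀ j) :
    ∃ a ∈ l, ∃ b ∈ l, a ∉ V0 hF W (j + 1) ∧ b ∉ V0 hF W (j + 1) ∧ a⁻¹ * b ∉ V0 hF W (j + 1) := by
  rcases hl with ⟨h, i, k, hik, h1, rfl⟩ | ⟨h, i, k, hik, h1, rfl⟩ | ⟨h, i, hi, h1, rfl⟩
  · rw [V0_even_succ h]
    refine pair_Ln hF hq W hik h1 fun g hg _ s hs hlead => ?_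
    have h2 := hg.2 (n - 1 - i) (by omega) (n - 1 - k) (by omega) (by omega)
    rw [hlead, mul_pow, hs] at h2
    by_contra hs0
    exact hc₀ (mul_left_cancel₀ hs0 h2)
  · rw [V0_odd_succ h]
    refine pair_Ln hF hq W hik h1 fun g hg _ s hs hlead => ?_
    rw [mul_one] at hlead
    rw [← hlead]
    exact Ug_coeff hg (W.mem (Nat.lt_succ_self (n - 1 - i)) (by omega)) (by omega) (by omega)
  · rw [V0_odd_succ h]
    obtain ⟨t₀, ht₀, h0, h1'⟩ := exists_t (F := F) hF hq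
    have ht0' : t₀ + t₀ ^ q = 0 := by rw [ht₀]; exact CharTwo.add_self_eq_zero _
    have ha : transv hF (v i) (W.iso hi) 1 one_tr' ∈ transvG hF (v i) (W.iso hi) := ⟨1, one_tr', rfl⟩
    have hb : transv hF (v i) (W.iso hi) t₀ ht0' ∈ transvG hF (v i) (W.iso hi) := ⟨t₀, ht0', rfl⟩
    have haU := Rg_le (transvG_le_Rg hF W hi h1 ha)
    have hbU := Rg_le (transvG_le_Rg hF W hi h1 hb)
    have hx := W.mem (Nat.lt_succ_self (n - 1 - i)) (by omega)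
    have hz : ∀ g ∈ Ug q v (j / 2 + 2), hermForm n F q (act g (v (n - 1 - i)) - v (n - 1 - i)) (v (n - 1 - i)) = 0 :=
      fun g hg => Ug_coeff hg hx (by omega) (by omega)
    refine ⟨_, ha, _, hb, ?_, ?_, ?_⟩
    · intro h2
      have h3 := hz _ h2
      rw [lead_transv hF W hi] at h3
      exact one_ne_zero h3
    · intro h2
      have h3 := hz _ h2
      rw [lead_transv hF W hi] at h3
      exact h0 h3
    · intro h2
      have h3 := hz _ h2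
      rw [lead_mul (inv_mem haU) hbU hx (by omega) (by omega), lead_inv haU hx (by omega) (by omega),
        lead_transv hF W hi, lead_transv hF W hi] at h3
      exact h1' (by linear_combination h3)

theorem star0 [CharP F 2] (hF : Fintype.card F = q ^ 2) (hn : 3 ≤ n) (W : Wb q v) {c₀ : F} (hc₀ : c₀ ^ q ≠ c₀) {j : ℕ}
    {l : Subgroup (SU n F q)} (hl : l ∈ L0 hF W c₀ j) {M : GU n F q} {ρ : F ≃+* F} (hU : Uni q v M ρ)
    (hρ : ∀ x : F, x ^ q = x → ρ x = x) (h2 : toAut M ρ * toAut M ρ = 1) {x : SU n F q} (hx : x ∈ l)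
    (hxV : x ∉ V0 hF W (j + 1)) (h : toAut M ρ (pr n F q x) = pr n F q x) {x' : SU n F q} (hx' : x' ∈ l) :
    toAut M ρ (pr n F q x') = pr n F q x' := by
  have hc0 : c₀ ≠ 0 := by
    rintro rfl
    exact hc₀ (zero_pow_q hF)
  rcases hl with ⟨h0, i, k, hik, h1, rfl⟩ | ⟨h0, i, k, hik, h1, rfl⟩ | ⟨h0, i, hi, h1, rfl⟩
  · rw [V0_even_succ h0] at hxV
    obtain ⟨t, μ, hs, ht, hμ, rfl⟩ := hx
    refine star_Ln hF hn W hU hρ h2 hc0 hs ht ?_ hμ h hx'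
    rintro rfl
    apply hxV
    apply Ug_le_Rg
    exact (siegel_mem_Ug hF W hik h1 hs hμ).2 (zero_mul _)
  · rw [V0_odd_succ h0] at hxV
    obtain ⟨t, μ, hs, ht, hμ, rfl⟩ := hx
    refine star_Ln hF hn W hU hρ h2 one_ne_zero hs ht ?_ hμ h hx'
    rintro rfl
    apply hxV
    exact (siegel_mem_Ug hF W hik h1 hs hμ).2 (zero_mul _)
  · rw [V0_odd_succ h0] at hxV
    obtain ⟨μ, hμ, rfl⟩ := hx
    obtain ⟨μ', hμ', rfl⟩ := hx'
    have hq : ∀ ν : F, ν + ν ^ q = 0 → ν ^ q = ν := fun ν hν => by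
      have h3 := CharTwo.add_self_eq_zero ν
      linear_combination hν - h3
    refine star_transv hF hn hρ (W.iso hi) hμ hμ' (hq μ hμ) (hq μ' hμ') ?_ h
    rintro rfl
    apply hxV
    rw [transv_zero]
    exact one_mem _

theorem fix0 [CharP F 2] (hF : Fintype.card F = q ^ 2) (W : Wb q v) {M : GU n F q} {ρ : F ≃+* F} (hU : Uni q v M ρ)
    (hρ : ∀ x : F, x ^ q = x → ρ x = x) {j : ℕ} {x : SU n F q} (hx : x ∈ V0 hF W j) :
    semiConj M ρ x * x⁻¹ ∈ V0 hF W (j + 1) := by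
  rcases Nat.mod_two_eq_zero_or_one j with h | h
  · rw [V0_even h] at hx
    rw [V0_even_succ h]
    exact fix_U hF W hU hρ hx
  · rw [V0_odd h] at hx
    rw [V0_odd_succ h]
    exact fix_R hF W hU hρ hx

/-- **(k3) for `PSU n F q`** -/
theorem filt [CharP F 2] (hF : Fintype.card F = q ^ 2) (hn : 3 ≤ n) (hq : 3 ≤ q) (T : Sylow 2 (PSU n F q))
    (A : Subgroup (MulAut (PSU n F q))) (hA : GoodA T A) : ∃ U L, FltA T A U L := by
  obtain ⟨v, W, hT, hv⟩ := exists_flag hF hn (by omega) T hA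
  obtain ⟨c₀, hc₀⟩ := exists_c (F := F) hF
  have hmem : ∀ (j : ℕ) (g : SU n F q), g ∈ Ug q v 1 → (pr n F q g ∈ (V0 hF W j).map (pr n F q) ↔ g ∈ V0 hF W j) :=
    fun j g hg => pr_mem_iff hF hn W (V0_le hF W j) hg
  have hlU : ∀ j, ∀ l ∈ L0 hF W c₀ j, ∀ x ∈ l, x ∈ Ug q v 1 := fun j l hl x hx =>
    V0_le hF W j (L0_le hF W c₀ hl hx)
  refine ⟨fun j => (V0 hF W j).map (pr n F q), fun j => {l | ∃ l₀ ∈ L0 hF W c₀ j, l = l₀.map (pr n F q)}, ?_, ?_, ?_,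
    ?_, ?_, ?_, ?_, ?_, ?_⟩
  · exact hT.symm
  · refine ⟨2 * n, ?_⟩
    rw [V0_even (by omega), eq_bot_iff]
    rintro _ ⟨g, hg, rfl⟩
    rw [Ug_top hF W (Ug_anti (by omega) hg), map_one]
    exact Subgroup.mem_bot.2 rfl
  · exact fun j => Subgroup.map_mono (V0_anti hF W j)
  · rintro j _ ⟨u, hu, rfl⟩
    have h1 := gen0 hF W hc₀ hu
    have h2 : pr n F q u ∈ (Subgroup.closure ({x | ∃ l ∈ L0 hF W c₀ j, x ∈ l} ∪
        (V0 hF W (j + 1) : Set (SU n F q)))).map (pr n F q) := ⟨u, h1, rfl⟩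
    rw [MonoidHom.map_closure] at h2
    refine Subgroup.closure_mono ?_ h2
    rintro _ ⟨x, (⟨l, hl, hx⟩ | hx), rfl⟩
    · exact Or.inl ⟨l.map (pr n F q), ⟨l, hl, rfl⟩, ⟨x, hx, rfl⟩⟩
    · exact Or.inr ⟨x, hx, rfl⟩
  · rintro j _ ⟨l, hl, rfl⟩
    exact Subgroup.map_mono (L0_le hF W c₀ hl)
  · rintro j _ ⟨l, hl, rfl⟩ _ ⟨x, hx, rfl⟩
    exact ⟨x * x, sq0 hF W hl hx, map_mul _ _ _⟩
  · rintro j _ ⟨l, hl, rfl⟩
    obtain ⟨a, ha, b, hb, h1, h2, h3⟩ := pair0 hF hq W hc₀ hl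
    refine ⟨_, ⟨a, ha, rfl⟩, _, ⟨b, hb, rfl⟩, ?_, ?_, ?_⟩
    · exact fun h => h1 ((hmem _ _ (hlU j l hl a ha)).1 h)
    · exact fun h => h2 ((hmem _ _ (hlU j l hl b hb)).1 h)
    · intro h
      rw [← map_inv, ← map_mul] at h
      exact h3 ((hmem _ _ (mul_mem (inv_mem (hlU j l hl a ha)) (hlU j l hl b hb))).1 h)
  · rintro j _ ⟨l, hl, rfl⟩ y hyA hyT hy2 _ ⟨x, hx, rfl⟩ hxU hyx _ ⟨x', hx', rfl⟩
    obtain ⟨M, ρ, rfl, hU⟩ := hv y hyA
    have hρ := rho_of_fixZ hF W hn hT hU hyT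
    exact star0 hF hn W hc₀ hl hU hρ hy2 hx (fun h => hxU ((hmem _ _ (hlU j l hl x hx)).2 h)) hyx hx'
  · rintro j _ ⟨l, hl, rfl⟩ _ ⟨x, hx, rfl⟩ e heA heT
    obtain ⟨M, ρ, rfl, hU⟩ := hv e heA
    have hρ := rho_of_fixZ hF W hn hT hU heT
    refine ⟨_, fix0 hF W hU hρ (L0_le hF W c₀ hl hx), ?_⟩
    rw [map_mul, map_inv, Cfsg.Agent.ClassicalGeometry.PSUAutMain.toAut_pr']

end Cfsg.Agent.OddHalf.D4.UnB
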