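import Mathlib
import Cfsg.Agent.OddHalf.D4.UnB.Filt
import Cfsg.Agent.OddHalf.D4.UnB.AutPart

/-!
# ODD, D4, (1B): the K-facts for `PSU n F q`, `q ≥ 4` even
-/

set_option autoImplicit false

namespace Cfsg.Agent.OddHalf.D4.UnB

open Cfsg Cfsg.Agent.OddHalf.D4.Free

/-- **`AFacts` for `PSU n F q`**, `n ≥ 3`, `q ≥ 3` a power of two. -/
theorem aFacts {F : Type*} [Field F] [Fintype F] {q n : ℕ} [CharP F 2] (hF : Fintype.card F = q ^ 2) (hn : 3 ≤ n)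
    (hq : 3 ≤ q) (T : Sylow 2 (PSU n F q)) : AFacts T :=
  AutPart.aFacts hF hn (by omega) T fun A hA => filt hF hn hq T A hA

/-- **`BFacts` for `K ≅ PSU n F q`**, `n ≥ 3`, `q ≥ 3` a power of two. -/
theorem bFacts {G : Type*} [Group G] [Finite G] {K : Subgroup G} {F : Type*} [Field F] [Fintype F] {q n : ℕ}
    [CharP F 2] (hF : Fintype.card F = q ^ 2) (hn : 3 ≤ n) (hq : 3 ≤ q) (e : ↥K ≃* PSU n F q) : BFacts K := by
  have : Fact (Nat.Prime 2) := ⟨Nat.prime_two⟩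
  obtain ⟨T⟩ : Nonempty (Sylow 2 (PSU n F q)) := inferInstance
  exact (aFacts hF hn hq T).bfacts e.symm

end Cfsg.Agent.OddHalf.D4.UnB
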